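import Mathlib

/-!
# The row `C₃(4,4,2)`: group theory (helper635)

* `exists_cent` : a nontrivial 2-group normalised by a 2-group contains a nontrivial element centralised by it;
* `heis` : centres of `⟨A, B, Z⟩`, `[A, B] ≤ Z`;
* `card_sq_le` : an abelian subgroup `A` of `E`, `[E, E] ≤ ⟨z⟩ = Z(E)`, has `|A|² ≤ 2 |E|`;
* `main_abs` : a normal subgroup of `U = (γ F) E` not contained in `E` contains elements of `β E` and `θ`.
-/

set_option autoImplicit false

namespace Cfsg.Agent.Omega.EH3Close.CThree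

open Subgroup

variable {Y : Type*} [Group Y]

/-- conjugation action on a subgroup -/
@[reducible] def conjAct {H K : Subgroup Y} (hK : ∀ h ∈ H, ∀ k ∈ K, h * k * h⁻¹ ∈ K) : MulAction H K where
  smul h k := ⟨h * k * (h : Y)⁻¹, hK h h.2 k k.2⟩
  one_smul k := Subtype.ext (by show (1 : Y) * k * (1 : Y)⁻¹ = k; group)
  mul_smul g h k := Subtype.ext (by show (g * h : Y) * k * (g * h : Y)⁻¹ = g * (h * k * (h : Y)⁻¹) * (g : Y)⁻¹; group)

theorem exists_cent [Finite Y] {H K : Subgroup Y} (hH : IsPGroup 2 H) (hK2 : IsPGroup 2 K)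
    (hK : ∀ h ∈ H, ∀ k ∈ K, h * k * h⁻¹ ∈ K) (hne : K ≠ ⊥) : ∃ k ∈ K, k ≠ 1 ∧ ∀ h ∈ H, h * k = k * h := by
  have : Fact (Nat.Prime 2) := ⟨Nat.prime_two⟩
  let _ := conjAct hK
  have h1 : (1 : K) ∈ MulAction.fixedPoints H K := by
    intro h
    exact Subtype.ext (by show (h : Y) * 1 * (h : Y)⁻¹ = 1; group)
  have h2 : 2 ∣ Nat.card K := by
    obtain ⟨n, hn⟩ := IsPGroup.iff_card.1 hK2
    rcases Nat.eq_zero_or_pos n with h0 | h0
    · exfalso
      rw [h0, pow_zero] at hn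
      exact hne (Subgroup.card_eq_one.1 hn)
    · rw [hn]; exact dvd_pow_self 2 (by omega)
  obtain ⟨k, hk, hk1⟩ := hH.exists_fixed_point_of_prime_dvd_card_of_fixed_point K h2 h1
  refine ⟨k, k.2, fun h => hk1 (Subtype.ext h).symm, fun h hh => ?_⟩
  have h3 : (h * k * h⁻¹ : Y) = k := congrArg Subtype.val (hk ⟨h, hh⟩)
  calc h * k = h * k * h⁻¹ * h := by group
    _ = k * h := by rw [h3]

theorem mem_sup_of {A N : Subgroup Y} (h : ∀ a ∈ A, ∀ b ∈ N, a * b * a⁻¹ ∈ N) {u : Y} (hu : u ∈ A ⊔ N) :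
    ∃ a ∈ A, ∃ w ∈ N, u = a * w := by
  let S : Subgroup Y :=
    { carrier := {u | ∃ a ∈ A, ∃ w ∈ N, u = a * w}
      one_mem' := ⟨1, one_mem _, 1, one_mem _, by simp⟩
      mul_mem' := by
        rintro _ _ ⟨a, ha, w, hw, rfl⟩ ⟨b, hb, v, hv, rfl⟩
        have h1 := h b⁻¹ (inv_mem hb) w hw
        rw [inv_inv] at h1
        exact ⟨a * b, mul_mem ha hb, b⁻¹ * w * b * v, mul_mem h1 hv, by group⟩
      inv_mem' := by
        rintro _ ⟨a, ha, w, hw, rfl⟩
        exact ⟨a⁻¹, inv_mem ha, a * w⁻¹ * a⁻¹, h a ha _ (inv_mem hw), by group⟩ }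
  have : A ⊔ N ≤ S :=
    sup_le (fun a ha => ⟨a, ha, 1, one_mem _, by simp⟩) (fun b hb => ⟨1, one_mem _, b, hb, by simp⟩)
  exact this hu

/-- `P = ⟨A, B, Z⟩`, `A`, `B` abelian, `Z` central, `[A, B] ≤ Z`: an element of `P` is `a b z` -/
theorem exists_abz {A B Z : Subgroup Y} (hZA : ∀ z ∈ Z, ∀ a ∈ A, z * a = a * z) (hZB : ∀ z ∈ Z, ∀ b ∈ B, z * b = b * z)
    (hAB : ∀ a ∈ A, ∀ b ∈ B, a * b * a⁻¹ * b⁻¹ ∈ Z) {p : Y} (hp : p ∈ A ⊔ (B ⊔ Z)) :
    ∃ a ∈ A, ∃ b ∈ B, ∃ z ∈ Z, p = a * b * z := by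
  have h1 : ∀ b ∈ B, ∀ z ∈ Z, b * z * b⁻¹ ∈ Z := by
    intro b hb z hz
    rw [← hZB z hz b hb, mul_inv_cancel_right]; exact hz
  obtain ⟨a, ha, w, hw, rfl⟩ := mem_sup_of (A := A) (N := B ⊔ Z) (by
    intro a ha w hw
    obtain ⟨b, hb, z, hz, rfl⟩ := mem_sup_of h1 hw
    have e : a * (b * z) * a⁻¹ = (a * b * a⁻¹ * b⁻¹) * b * (a * z * a⁻¹) := by group
    have e2 : a * z * a⁻¹ = z := by rw [← hZA z hz a ha, mul_inv_cancel_right]
    rw [e, e2]
    exact mul_mem (mul_mem (mem_sup_right (hAB a ha b hb)) (mem_sup_left hb)) (mem_sup_right hz)) hp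
  obtain ⟨b, hb, z, hz, rfl⟩ := mem_sup_of h1 hw
  exact ⟨a, ha, b, hb, z, hz, by group⟩

/-- the centre of `⟨A, B, Z⟩` -/
theorem heis {A B Z : Subgroup Y} (hZA : ∀ z ∈ Z, ∀ a ∈ A, z * a = a * z) (hZB : ∀ z ∈ Z, ∀ b ∈ B, z * b = b * z)
    (hB : ∀ b ∈ B, ∀ b' ∈ B, b * b' = b' * b)
    (hAB : ∀ a ∈ A, ∀ b ∈ B, a * b * a⁻¹ * b⁻¹ ∈ Z) (hA1 : ∀ a ∈ A, a ≠ 1 → ∃ b ∈ B, a * b ≠ b * a)
    (hB1 : ∀ b ∈ B, b ≠ 1 → ∃ a ∈ A, b * a ≠ a * b) {p : Y} (hp : p ∈ A ⊔ (B ⊔ Z))
    (h1 : ∀ a ∈ A, p * a = a * p) (h2 : ∀ b ∈ B, p * b = b * p) : p ∈ Z := by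
  obtain ⟨a, ha, b, hb, z, hz, rfl⟩ := exists_abz hZA hZB hAB hp
  have ea : a = 1 := by
    by_contra hne
    obtain ⟨b', hb', hc⟩ := hA1 a ha hne
    apply hc
    have h3 := h2 b' hb'
    have e1 : a * b * z * b' = a * b' * (b * z) := by
      calc a * b * z * b' = a * b * (z * b') := by group
        _ = a * b * (b' * z) := by rw [hZB z hz b' hb']
        _ = a * (b * b') * z := by group
        _ = a * (b' * b) * z := by rw [hB b hb b' hb']
        _ = _ := by group
    rw [e1, show b' * (a * b * z) = b' * a * (b * z) by group] at h3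
    exact mul_right_cancel h3
  subst ea
  have eb : b = 1 := by
    by_contra hne
    obtain ⟨a', ha', hc⟩ := hB1 b hb hne
    apply hc
    have h3 := h1 a' ha'
    have e1 : 1 * b * z * a' = b * a' * z := by
      calc 1 * b * z * a' = b * (z * a') := by group
        _ = b * (a' * z) := by rw [hZA z hz a' ha']
        _ = _ := by group
    rw [e1, show a' * (1 * b * z) = a' * b * z by group] at h3
    exact mul_right_cancel h3
  subst eb
  rw [one_mul, one_mul]; exact hz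

/-- the product of two commuting groups -/
theorem heis_mul {P P' Z : Subgroup Y} (hPP : ∀ p ∈ P, ∀ p' ∈ P', p * p' = p' * p)
    (h1 : ∀ p ∈ P, (∀ a ∈ P, p * a = a * p) → p ∈ Z) (h2 : ∀ p ∈ P', (∀ a ∈ P', p * a = a * p) → p ∈ Z)
    {e : Y} (he : e ∈ P ⊔ P') (hc : ∀ e' ∈ P ⊔ P', e * e' = e' * e) : e ∈ Z := by
  obtain ⟨p, hp, p', hp', rfl⟩ := mem_sup_of (A := P) (N := P') (by
    intro p hp p' hp'
    rw [hPP p hp p' hp', mul_inv_cancel_right]; exact hp') he
  refine mul_mem (h1 p hp fun a ha => ?_) (h2 p' hp' fun a ha => ?_)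
  · have h3 := hc a (mem_sup_left ha)
    have e1 : p * p' * a = p * a * p' := by rw [mul_assoc, ← hPP a ha p' hp', ← mul_assoc]
    rw [e1, show a * (p * p') = a * p * p' by group] at h3
    exact mul_right_cancel h3
  · have h3 := hc a (mem_sup_right ha)
    have e1 : a * (p * p') = p * (a * p') := by rw [← mul_assoc, ← hPP p hp a ha, mul_assoc]
    rw [e1, mul_assoc] at h3
    exact mul_left_cancel h3

/-- **The bound for abelian subgroups.** -/
theorem card_sq_le [Finite Y] {E A : Subgroup Y} {z : Y} (hz : z ≠ 1) (hz2 : z * z = 1) (hzE : ∀ e ∈ E, z * e = e * z)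
    (hc : ∀ e ∈ E, ∀ e' ∈ E, e * e' = e' * e ∨ e * e' = e' * e * z) (hA : A ≤ E)
    (hab : ∀ a ∈ A, ∀ b ∈ A, a * b = b * a) (hcen : ∀ e ∈ E, (∀ e' ∈ E, e * e' = e' * e) → e = 1 ∨ e = z) :
    Nat.card A * Nat.card A ≤ 2 * Nat.card E := by
  classical
  have : Fintype Y := Fintype.ofFinite Y
  have : Fintype E := Fintype.ofFinite E
  have : Fintype A := Fintype.ofFinite A
  -- the characters
  have hne : ∀ e ∈ E, ∀ e' ∈ E, e * e' = e' * e → e * e' ≠ e' * e * z := by
    intro e _ e' _ h1 h2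
    rw [h1] at h2
    exact hz (left_eq_mul.1 h2)
  let χ : A → (E →* ℤ) := fun a =>
    { toFun := fun e => if (e : Y) * a = a * e then 1 else -1
      map_one' := by simp
      map_mul' := by
        intro e e'
        rcases hc e e.2 a (hA a.2) with h1 | h1 <;> rcases hc e' e'.2 a (hA a.2) with h2 | h2
        · rw [if_pos h1, if_pos h2, if_pos, one_mul]
          show (e * e' : Y) * a = a * (e * e' : Y)
          rw [mul_assoc, h2, ← mul_assoc, h1, mul_assoc]
        · rw [if_pos h1, if_neg (fun h => hne e' e'.2 a (hA a.2) h h2), if_neg, one_mul]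
          intro h3
          change (e * e' : Y) * a = a * (e * e' : Y) at h3
          have h4 : (e * e' : Y) * a = a * (e * e' : Y) * z := by
            calc (e * e' : Y) * a = e * (e' * a) := by group
              _ = e * (a * e' * z) := by rw [h2]
              _ = (e * a) * e' * z := by group
              _ = _ := by rw [h1]; group
          exact hne _ (mul_mem e.2 e'.2) a (hA a.2) h3 h4
        · rw [if_neg (fun h => hne e e.2 a (hA a.2) h h1), if_pos h2, if_neg, mul_one]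
          intro h3
          change (e * e' : Y) * a = a * (e * e' : Y) at h3
          have h4 : (e * e' : Y) * a = a * (e * e' : Y) * z := by
            calc (e * e' : Y) * a = e * (e' * a) := by group
              _ = (e * a) * e' := by rw [h2]; group
              _ = a * e * (z * e') := by rw [h1]; group
              _ = _ := by rw [hzE e' e'.2]; group
          exact hne _ (mul_mem e.2 e'.2) a (hA a.2) h3 h4
        · rw [if_neg (fun h => hne e e.2 a (hA a.2) h h1), if_neg (fun h => hne e' e'.2 a (hA a.2) h h2), if_pos,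
            neg_mul_neg, one_mul]
          show (e * e' : Y) * a = a * (e * e' : Y)
          calc (e * e' : Y) * a = e * (e' * a) := by group
              _ = (e * a) * e' * z := by rw [h2]; group
              _ = a * e * (z * e') * z := by rw [h1]; group
              _ = a * e * e' * (z * z) := by rw [hzE e' e'.2]; group
              _ = _ := by rw [hz2]; group }
  have hχ : ∀ (a : A) (e : E), χ a e = if (e : Y) * a = a * e then 1 else -1 := fun _ _ => rfl
  have hsum : ∀ a : A, ((a : Y) ≠ 1 ∧ (a : Y) ≠ z) → ∑ e : E, χ a e = 0 := by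
    intro a ha
    refine sum_hom_units_eq_zero (χ a) fun h => ?_
    rcases hcen a (hA a.2) (fun e' he' => by
      have h1 : χ a ⟨e', he'⟩ = 1 := by rw [h]; rfl
      rw [hχ] at h1
      by_contra hcon
      rw [if_neg (fun h2 => hcon h2.symm)] at h1
      exact absurd h1 (by decide)) with h1 | h1
    · exact ha.1 h1
    · exact ha.2 h1
  have hbig : ∀ a : A, ∑ e : E, χ a e ≤ Nat.card E := by
    intro a
    calc ∑ e : E, χ a e ≤ ∑ _e : E, (1 : ℤ) := by
          refine Finset.sum_le_sum fun e _ => ?_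
          rw [hχ]; split_ifs <;> norm_num
      _ = Nat.card E := by simp
  -- upper bound
  have hup : ∑ a : A, ∑ e : E, χ a e ≤ 2 * Nat.card E := by
    have h1 : ∀ a : A, ∑ e : E, χ a e ≤ if ((a : Y) = 1 ∨ (a : Y) = z) then (Nat.card E : ℤ) else 0 := by
      intro a
      split_ifs with h
      · exact hbig a
      · push Not at h
        exact le_of_eq (hsum a h)
    refine (Finset.sum_le_sum fun a _ => h1 a).trans ?_
    rw [← Finset.sum_filter, Finset.sum_const, nsmul_eq_mul]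
    refine mul_le_mul_of_nonneg_right ?_ (by positivity)
    have h2 : (Finset.univ.filter fun a : A => (a : Y) = 1 ∨ (a : Y) = z).card ≤ ({1, z} : Finset Y).card := by
      refine Finset.card_le_card_of_injOn (fun a => (a : Y)) ?_ (fun _ _ _ _ h => Subtype.ext h)
      intro a ha
      simpa using ha
    have h3 : ({1, z} : Finset Y).card ≤ 2 := Finset.card_le_two
    exact_mod_cast h2.trans h3
  -- lower bound
  have hlow : (Nat.card A : ℤ) * Nat.card A ≤ ∑ a : A, ∑ e : E, χ a e := by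
    rw [Finset.sum_comm]
    -- for fixed `e` the sum over `a` is nonnegative, and `|A|` for `e ∈ A`
    have h1 : ∀ e : E, 0 ≤ ∑ a : A, χ a e := by
      intro e
      let ψ : A →* ℤ :=
        { toFun := fun a => χ a e
          map_one' := by rw [hχ]; simp
          map_mul' := by
            intro a a'
            rw [hχ, hχ, hχ]
            rcases hc e e.2 a (hA a.2) with h1 | h1 <;> rcases hc e e.2 a' (hA a'.2) with h2 | h2
            · rw [if_pos h1, if_pos h2, if_pos, one_mul]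
              show (e : Y) * (a * a' : Y) = (a * a' : Y) * e
              rw [← mul_assoc, h1, mul_assoc, h2, mul_assoc]
            · rw [if_pos h1, if_neg (fun h => hne e e.2 a' (hA a'.2) h h2), if_neg, one_mul]
              intro h3
              change (e : Y) * (a * a' : Y) = (a * a' : Y) * e at h3
              refine hne _ e.2 _ (mul_mem (hA a.2) (hA a'.2)) h3 ?_
              calc (e : Y) * (a * a') = (e * a) * a' := by group
                _ = a * (e * a') := by rw [h1]; group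
                _ = _ := by rw [h2]; group
            · rw [if_neg (fun h => hne e e.2 a (hA a.2) h h1), if_pos h2, if_neg, mul_one]
              intro h3
              change (e : Y) * (a * a' : Y) = (a * a' : Y) * e at h3
              refine hne _ e.2 _ (mul_mem (hA a.2) (hA a'.2)) h3 ?_
              calc (e : Y) * (a * a') = (e * a) * a' := by group
                _ = a * e * (z * a') := by rw [h1]; group
                _ = a * (e * a') * z := by rw [hzE a' (hA a'.2)]; group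
                _ = _ := by rw [h2]; group
            · rw [if_neg (fun h => hne e e.2 a (hA a.2) h h1), if_neg (fun h => hne e e.2 a' (hA a'.2) h h2),
                if_pos, neg_mul_neg, one_mul]
              show (e : Y) * (a * a' : Y) = (a * a' : Y) * e
              calc (e : Y) * (a * a') = (e * a) * a' := by group
                _ = a * e * (z * a') := by rw [h1]; group
                _ = a * (e * a') * z := by rw [hzE a' (hA a'.2)]; group
                _ = a * a' * e * (z * z) := by rw [h2]; group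
                _ = _ := by rw [hz2]; group }
      have h2 : ∑ a : A, χ a e = ∑ a : A, ψ a := rfl
      by_cases h3 : ψ = 1
      · rw [h2, h3]
        exact Finset.sum_nonneg fun a _ => by rw [MonoidHom.one_apply]; norm_num
      · rw [h2, sum_hom_units_eq_zero ψ h3]
    have h2 : ∑ e : E, (if (e : Y) ∈ A then (Nat.card A : ℤ) else 0) ≤ ∑ e : E, ∑ a : A, χ a e := by
      refine Finset.sum_le_sum fun e _ => ?_
      split_ifs with h
      · refine le_of_eq ?_
        have h3 : ∀ a : A, χ a e = 1 := fun a => by rw [hχ, if_pos (hab e h a a.2)]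
        rw [Finset.sum_congr rfl fun a _ => h3 a]
        simp
      · exact h1 e
    refine le_trans (le_of_eq ?_) h2
    rw [← Finset.sum_filter, Finset.sum_const, nsmul_eq_mul]
    congr 1
    have h3 : (Finset.univ.filter fun e : E => (e : Y) ∈ A).card = Nat.card A := by
      rw [Nat.card_eq_fintype_card, ← Finset.card_univ]
      refine Finset.card_bij' (fun e he => ⟨(e : Y), by simpa using he⟩) (fun a _ => ⟨(a : Y), hA a.2⟩)
        (by simp) (by intro a _; simp) (by intro e _; rfl) (by intro a _; rfl)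
    exact_mod_cast h3.symm
  have := hlow.trans hup
  exact_mod_cast this

/-- **The main argument.** -/
theorem main_abs [Finite Y] {U E F UJ Γ β θ N : Subgroup Y} (hU2 : IsPGroup 2 U) (hEU : E ≤ U) (hUJU : UJ ≤ U)
    (hFUJ : F ≤ UJ) (hE : ∀ u ∈ U, ∀ e ∈ E, u * e * u⁻¹ ∈ E) (hU : ∀ g ∈ U, ∃ u ∈ UJ, ∃ e ∈ E, g = u * e)
    (hF : ∀ u ∈ UJ, ∀ f ∈ F, u * f * u⁻¹ ∈ F) (hUJ : ∀ u ∈ UJ, ∃ v ∈ Γ, ∃ f ∈ F, u = v * f)
    (ZE : ∀ e ∈ E, (∀ e' ∈ E, e * e' = e' * e) → e ∈ θ) (ZF : ∀ f ∈ F, (∀ f' ∈ F, f * f' = f' * f) → f ∈ β)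
    (cE : ∀ x ∈ E, ∀ y ∈ E, x * y * x⁻¹ * y⁻¹ ∈ θ) (cF : ∀ x ∈ F, ∀ y ∈ F, x * y * x⁻¹ * y⁻¹ ∈ β)
    (hγ : ∀ v ∈ Γ, v ≠ 1 → ∃ u ∈ F, v * u * v⁻¹ * u⁻¹ ∉ β) (hβ : ∀ x ∈ β, x ≠ 1 → ∃ u ∈ E, x * u * x⁻¹ * u⁻¹ ∉ θ)
    (hNU : N ≤ U) (hN : ∀ u ∈ U, ∀ x ∈ N, u * x * u⁻¹ ∈ N) (hNE : ¬ N ≤ E) :
    ∃ x ∈ β, x ≠ 1 ∧ ∃ y ∈ E, x * y ∈ N ∧ ∃ z ∈ θ, z ≠ 1 ∧ z ∈ N := by
  have hE' : ∀ u ∈ UJ, ∀ e ∈ E, u⁻¹ * e * u ∈ E := by
    intro u hu e he
    have := hE u⁻¹ (inv_mem (hUJU hu)) e he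
    rwa [inv_inv] at this
  let N' : Subgroup Y :=
    { carrier := {u | u ∈ UJ ∧ ∃ e ∈ E, u * e ∈ N}
      one_mem' := ⟨one_mem _, 1, one_mem _, by rw [mul_one]; exact one_mem _⟩
      mul_mem' := by
        rintro u u' ⟨hu, e, he, h1⟩ ⟨hu', e', he', h2⟩
        refine ⟨mul_mem hu hu', u'⁻¹ * e * u' * e', mul_mem (hE' u' hu' e he) he', ?_⟩
        have : u * u' * (u'⁻¹ * e * u' * e') = (u * e) * (u' * e') := by group
        rw [this]; exact mul_mem h1 h2
      inv_mem' := by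
        rintro u ⟨hu, e, he, h1⟩
        refine ⟨inv_mem hu, u * e⁻¹ * u⁻¹, hE u (hUJU hu) _ (inv_mem he), ?_⟩
        have : u⁻¹ * (u * e⁻¹ * u⁻¹) = (u * e)⁻¹ := by group
        rw [this]; exact inv_mem h1 }
  have hN' : ∀ w ∈ UJ, ∀ u ∈ N', w * u * w⁻¹ ∈ N' := by
    rintro w hw u ⟨hu, e, he, h1⟩
    refine ⟨mul_mem (mul_mem hw hu) (inv_mem hw), w * e * w⁻¹, hE w (hUJU hw) e he, ?_⟩
    have : w * u * w⁻¹ * (w * e * w⁻¹) = w * (u * e) * w⁻¹ := by group
    rw [this]; exact hN w (hUJU hw) _ h1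
  have hF2 : IsPGroup 2 F := hU2.to_le (hFUJ.trans hUJU)
  have hE2 : IsPGroup 2 E := hU2.to_le hEU
  -- a nontrivial element of `β` in `N'`
  obtain ⟨x, hxβ, hx1, hxN⟩ : ∃ x ∈ β, x ≠ 1 ∧ x ∈ N' := by
    by_cases hK : N' ⊓ F = ⊥
    · exfalso
      obtain ⟨g, hg, hgE⟩ := SetLike.not_le_iff_exists.1 hNE
      obtain ⟨u, hu, e, he, rfl⟩ := hU g (hNU hg)
      have huN : u ∈ N' := ⟨hu, e, he, hg⟩
      have hu1 : u ≠ 1 := by
        rintro rfl
        rw [one_mul] at hgE
        exact hgE he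
      have hcom : ∀ f ∈ F, u * f = f * u := by
        intro f hf
        have h1 : u * f * u⁻¹ * f⁻¹ ∈ N' ⊓ F := by
          refine Subgroup.mem_inf.2 ⟨?_, mul_mem (hF u hu f hf) (inv_mem hf)⟩
          have : u * f * u⁻¹ * f⁻¹ = u * (f * u⁻¹ * f⁻¹) := by group
          rw [this]
          exact mul_mem huN (hN' f (hFUJ hf) _ (inv_mem huN))
        rw [hK, mem_bot] at h1
        calc u * f = (u * f * u⁻¹ * f⁻¹) * (f * u) := by group
          _ = f * u := by rw [h1, one_mul]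
      obtain ⟨v, hv, f, hf, rfl⟩ := hUJ u hu
      have hv1 : v ≠ 1 := by
        rintro rfl
        rw [one_mul] at huN hu1
        have : f ∈ N' ⊓ F := ⟨huN, hf⟩
        rw [hK, mem_bot] at this
        exact hu1 this
      obtain ⟨w, hw, hwn⟩ := hγ v hv hv1
      apply hwn
      have h2 := hcom (f⁻¹ * w * f) (mul_mem (mul_mem (inv_mem hf) hw) hf)
      have h3 : v * w * v⁻¹ = f⁻¹ * w * f := by
        calc v * w * v⁻¹ = (v * f) * (f⁻¹ * w * f) * (v * f)⁻¹ := by group
          _ = (f⁻¹ * w * f) * (v * f) * (v * f)⁻¹ := by rw [h2]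
          _ = _ := by group
      rw [h3]
      have h4 := cF f⁻¹ (inv_mem hf) w hw
      rwa [inv_inv] at h4
    · obtain ⟨k, hk, hk1, hk2⟩ := exists_cent hF2 (hF2.to_le inf_le_right) (K := N' ⊓ F) (by
        rintro f hf k ⟨hk, hkF⟩
        exact Subgroup.mem_inf.2 ⟨hN' f (hFUJ hf) k hk, mul_mem (mul_mem hf hkF) (inv_mem hf)⟩) hK
      exact ⟨k, ZF k hk.2 fun f hf => (hk2 f hf).symm, hk1, hk.1⟩
  obtain ⟨-, y, hy, hxy⟩ := hxN
  refine ⟨x, hxβ, hx1, y, hy, hxy, ?_⟩
  by_cases hK : N ⊓ E = ⊥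
  · exfalso
    obtain ⟨u, hu, hun⟩ := hβ x hxβ hx1
    apply hun
    have hcom : ∀ e ∈ E, x * y * e = e * (x * y) := by
      intro e he
      have h1 : (x * y) * e * (x * y)⁻¹ * e⁻¹ ∈ N ⊓ E := by
        refine Subgroup.mem_inf.2 ⟨?_, mul_mem (hE _ (hNU hxy) e he) (inv_mem he)⟩
        have : (x * y) * e * (x * y)⁻¹ * e⁻¹ = (x * y) * (e * (x * y)⁻¹ * e⁻¹) := by group
        rw [this]
        exact mul_mem hxy (hN e (hEU he) _ (inv_mem hxy))
      rw [hK, mem_bot] at h1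
      calc x * y * e = ((x * y) * e * (x * y)⁻¹ * e⁻¹) * (e * (x * y)) := by group
        _ = _ := by rw [h1, one_mul]
    have h2 := hcom (y⁻¹ * u * y) (mul_mem (mul_mem (inv_mem hy) hu) hy)
    have h3 : x * u * x⁻¹ = y⁻¹ * u * y := by
      calc x * u * x⁻¹ = (x * y * (y⁻¹ * u * y)) * (x * y)⁻¹ := by group
        _ = ((y⁻¹ * u * y) * (x * y)) * (x * y)⁻¹ := by rw [h2]
        _ = _ := by group
    rw [h3]
    have h4 := cE y⁻¹ (inv_mem hy) u hu
    rwa [inv_inv] at h4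
  · obtain ⟨k, hk, hk1, hk2⟩ := exists_cent hE2 (hE2.to_le inf_le_right) (K := N ⊓ E) (by
      rintro e he k ⟨hk, hkE⟩
      exact Subgroup.mem_inf.2 ⟨hN e (hEU he) k hk, mul_mem (mul_mem he hkE) (inv_mem he)⟩) hK
    exact ⟨k, ZE k hk.2 fun e he => (hk2 e he).symm, hk1, hk.1⟩

end Cfsg.Agent.Omega.EH3Close.CThree
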