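import Cfsg.Agent.Omega.EH3.Kf.Two

/-!
# The row `C₃(4,4,2)`: angle 135 degrees (helper635)

`m` long, `x` short, `⟨m, x^∨⟩ = -2`, `⟨x, m^∨⟩ = -1`; `T` centralises `X m`, `X (m + 2x)` and is transitive on the
nontrivial elements of `X x`, `|X x| > 2`:  `⁅v, u⁆ ∉ X (m + 2x)` for `1 ≠ v ∈ X m`, `1 ≠ u ∈ X x`.
-/

set_option autoImplicit false
set_option linter.unusedSectionVars false

namespace Cfsg.Agent.Omega.EH3Close.CThree

open CoxeterSystem Cfsg.Agent.ChevalleyStructure.CoxeterGeom Cfsg.Agent.Tits.Roots Cfsg.Agent.Tits.Core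
  Cfsg.Agent.Tits.RootComb Cfsg.Agent.Nodes.Comb Cfsg.Agent.Nodes.Reps Cfsg.Agent.Nodes.BNOf
  Cfsg.Agent.Nodes.RGDLib Cfsg.Agent.Nodes.SubComb Cfsg.Agent.Nodes.Sub Cfsg.Agent.Nodes.PosPair
  Cfsg.Agent.Nodes.ZFam Cfsg.Agent.Nodes.Coroot Cfsg.Agent.Nodes.PairOf Cfsg.Agent.Nodes.MuSq
  Cfsg.Agent.Nodes.OppDec Cfsg.Agent.Nodes.ShortSum Cfsg.Agent.Omega.EH3.Kf.Two
open scoped commutatorElement

variable {I W Y : Type*} [Fintype I] [DecidableEq I] [Group W] [Group Y] {M : CoxeterMatrix I}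
  {cs : CoxeterSystem M W} {A : I → I → ℤ} {h : IsCartan M A} {p : ℕ} {T : Subgroup Y} {n : I → Y}
  {X : (I → ℤ) → Subgroup Y}

/-- acute angle: the root groups commute -/
theorem comm_pos [Finite W] (R : RGD cs h p T n X) (h6 : ∀ i j, M i j ≠ 6) {x y : I → ℤ} (hx : IsRoot cs h x)
    (hy : IsRoot cs h y) (hne : x ≠ y) (hp : 0 < cpr cs h y x) : ∀ u ∈ X x, ∀ v ∈ X y, u * v = v * u := by
  intro u hu v hv
  exact commutatorElement_eq_one_iff_mul_comm.1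
    (comm_of_no_btwn R hx hy hne (ne_neg_of_cpr hx (by omega)) (not_btwn_of_pos h6 hx hy hne
      (ne_neg_of_cpr hx (by omega)) hp) u hu v hv)

theorem exists_two {K : Subgroup Y} (h4 : 2 < Nat.card K) (u : Y) :
    ∃ u' ∈ K, u' ≠ 1 ∧ u * u' ≠ 1 := by
  classical
  by_contra hcon
  push Not at hcon
  have : Nat.card K ≤ 2 := by
    have hsub : (K : Set Y) ⊆ ({1, u⁻¹} : Set Y) := by
      intro g hg
      by_cases h1 : g = 1
      · left; exact h1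
      · right
        exact eq_inv_of_mul_eq_one_right (hcon g hg h1)
    have h1 := Set.ncard_le_ncard hsub (Set.toFinite _)
    have h2 : Set.ncard ({1, u⁻¹} : Set Y) ≤ 2 := Set.ncard_insert_le _ _ |>.trans (by rw [Set.ncard_singleton])
    have h3 : Set.ncard (K : Set Y) = Nat.card K := rfl
    omega
  omega

/-- **(F3)** -/
theorem not_mem_long [Finite W] (R : RGD cs h p T n X) (h6 : ∀ i j, M i j ≠ 6) {m x : I → ℤ} (hm : IsRoot cs h m)
    (hx : IsRoot cs h x) (c1 : cpr cs h m x = -2) (c2 : cpr cs h x m = -1)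
    (hTm : ∀ t ∈ T, ∀ v ∈ X m, t * v = v * t) (hTz : ∀ t ∈ T, ∀ v ∈ X (m + (2 : ℤ) • x), t * v = v * t)
    (hTx : ∀ u ∈ X x, u ≠ 1 → ∀ u' ∈ X x, u' ≠ 1 → ∃ t ∈ T, t * u * t⁻¹ = u')
    (h4 : 2 < Nat.card (X x)) {v u : Y} (hv : v ∈ X m) (hv1 : v ≠ 1) (hu : u ∈ X x) (hu1 : u ≠ 1) :
    v * u * v⁻¹ * u⁻¹ ∉ X (m + (2 : ℤ) • x) := by
  intro hc
  have := Fintype.ofFinite W
  have hz : IsRoot cs h (m + (2 : ℤ) • x) := isRoot_add_smul hm hx c1
  have hxm : x ≠ m := by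
    rintro rfl
    rw [cpr_self cs h hx] at c1; omega
  have hmx' : m ≠ -x := ne_neg_of_cpr hm (by omega)
  have hxm' : x ≠ -m := fun e => hmx' (by rw [e, neg_neg])
  have hxz : x ≠ m + (2 : ℤ) • x := by
    intro e
    apply hmx'
    have : m = (m + (2 : ℤ) • x) - (2 : ℤ) • x := by abel
    rw [this, ← e]; module
  have hcz : ∀ w ∈ X x, ∀ c ∈ X (m + (2 : ℤ) • x), w * c = c * w := comm_pos R h6 hx hz hxz (by
    rw [cpr_add cs h _ _ hx, cpr_smul cs h _ _ hx, cpr_self cs h hx, c1]; norm_num)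
  -- all the commutators are the same
  have key : ∀ w ∈ X x, w ≠ 1 → v * w * v⁻¹ * w⁻¹ = v * u * v⁻¹ * u⁻¹ := by
    intro w hw hw1
    obtain ⟨t, ht, e⟩ := hTx u hu hu1 w hw hw1
    have e1 : t * v * t⁻¹ = v := by rw [hTm t ht v hv, mul_inv_cancel_right]
    have e2 : t * (v * u * v⁻¹ * u⁻¹) * t⁻¹ = v * u * v⁻¹ * u⁻¹ := by
      rw [hTz t ht _ hc, mul_inv_cancel_right]
    rw [← e2, ← e]
    calc v * (t * u * t⁻¹) * v⁻¹ * (t * u * t⁻¹)⁻¹
        = (t * v * t⁻¹) * (t * u * t⁻¹) * (t * v * t⁻¹)⁻¹ * (t * u * t⁻¹)⁻¹ := by rw [e1]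
      _ = _ := by group
  obtain ⟨u', hu', hu1', huu⟩ := exists_two h4 u
  set c : Y := v * u * v⁻¹ * u⁻¹ with hcdef
  have h1 := key _ (mul_mem hu hu') huu
  have h2 := key _ hu' hu1'
  have h3 : v * (u * u') * v⁻¹ * (u * u')⁻¹ = c * (u * (v * u' * v⁻¹ * u'⁻¹) * u⁻¹) := by
    rw [hcdef]; group
  rw [h3, h2, hcz u hu c hc, mul_inv_cancel_right] at h1
  have hc1 : c = 1 := mul_eq_left.1 h1
  have hcomm : u * v = v * u := by
    have h5 : v * u = c * (u * v) := by rw [hcdef]; group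
    rw [h5, hc1, one_mul]
  apply hv1
  refine Cfsg.Agent.Nodes.MuSq.eq_one_of_comm R hx hm hxm hxm' ?_ (by rw [c1]; norm_num) hu hu1 hv hcomm
  refine not_btwn_of_pos h6 hx.neg hm (fun e => hxm' (by rw [← e, neg_neg])) (fun e => hxm (neg_injective e)) ?_
  rw [cpr_neg_right cs h m hx, c1]; norm_num

end Cfsg.Agent.Omega.EH3Close.CThree
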