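import Cfsg.Agent.Nodes.Slope
import Cfsg.Agent.KFacts.RgdSL

/-!
# The row `C₃(4,4,2)`: orthogonal short root groups do not commute elementwise (helper40, fact (F4) of helper635)

`m` long, `x` short, `⟨m, x^∨⟩ = -2`, `⟨x, m^∨⟩ = -1` (so `m + x` is short and orthogonal to `x`, `m + 2x` is long).

* `Pl.no_btwn` .. : the roots of the plane;
* `eq_one_of_form` : `X m` meets the join of the root groups on the other side of a hyperplane trivially;
* `exists_not_comm` : `T` centralises `X m` and `X (m + 2x)` and is transitive on the nontrivial elements of `X x`,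
  `2 < |X x|`: every `1 ≠ u ∈ X x` moves some element of `X (m + x)`.
-/

set_option autoImplicit false
set_option linter.unusedSectionVars false

namespace Cfsg.Agent.Omega.EH3Close.CThree.Orth

open CoxeterSystem Cfsg.Agent.ChevalleyStructure.CoxeterGeom Cfsg.Agent.Tits.Roots Cfsg.Agent.Tits.Core
  Cfsg.Agent.Tits.RootComb Cfsg.Agent.Nodes.Comb Cfsg.Agent.Nodes.Reps Cfsg.Agent.Nodes.BNOf
  Cfsg.Agent.Nodes.Bruhat Cfsg.Agent.Nodes.OppDec Cfsg.Agent.Nodes.PosPair Cfsg.Agent.Nodes.Coroot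
  Cfsg.Agent.Nodes Cfsg.Agent.KFacts.RgdSL
open scoped commutatorElement

variable {I W Y : Type*} [Fintype I] [DecidableEq I] [Group W] [Group Y] {M : CoxeterMatrix I}
  {cs : CoxeterSystem M W} {A : I → I → ℤ} {h : IsCartan M A} {p : ℕ} {T : Subgroup Y} {n : I → Y}
  {X : (I → ℤ) → Subgroup Y}

/-! ### Roots (the structure `Sq` is the one of `Nodes/ShortSum.lean`) -/

section Copy

variable [Fintype W]

/-- `x` is on the ray of `y₁ + y₂`, `b` on the ray of `y₂ - y₁`, where `y₁, y₂` are orthogonal of the same length. -/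
structure Sq (cs : CoxeterSystem M W) (h : IsCartan M A) (m : ℤ) (y₁ y₂ x b : I → ℤ) : Prop where
  pos : 0 < m
  root₁ : IsRoot cs h y₁
  root₂ : IsRoot cs h y₂
  root : IsRoot cs h x
  rootb : IsRoot cs h b
  orth : form cs h y₁ y₂ = 0
  len : form cs h y₁ y₁ = form cs h y₂ y₂
  add : m • x = y₁ + y₂
  sub : m • b = y₂ - y₁

namespace Sq

variable {m : ℤ} {y₁ y₂ x b : I → ℤ}

theorem of_add (hm : 0 < m) (h1 : IsRoot cs h y₁) (h2 : IsRoot cs h y₂) (hx : IsRoot cs h x)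
    (ho : form cs h y₁ y₂ = 0) (hl : form cs h y₁ y₁ = form cs h y₂ y₂) (e : m • x = y₁ + y₂) :
    Sq cs h m y₁ y₂ x (x - cpr cs h x y₁ • y₁) := by
  refine ⟨hm, h1, h2, hx, isRoot_refl cs h hx h1, ho, hl, e, ?_⟩
  have h3 := two_form_cpr cs h x h1
  have h4 : m * form cs h x y₁ = form cs h y₁ y₁ := by
    rw [← form_smul_left, e, form_add_left, form_comm cs h y₂ y₁, ho, add_zero]
  have h5 := form_pos cs h h1.ne_zero
  have h6 : m * cpr cs h x y₁ = 2 := by
    have : (m * cpr cs h x y₁) * form cs h y₁ y₁ = 2 * form cs h y₁ y₁ := by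
      rw [mul_assoc, ← h3, mul_left_comm, h4]
    exact mul_right_cancel₀ h5.ne' this
  rw [smul_sub, e, smul_smul, h6]
  module

/-- The configuration `(-y₁, y₂, b, x)`. -/
theorem flip (S : Sq cs h m y₁ y₂ x b) : Sq cs h m (-y₁) y₂ b x where
  pos := S.pos
  root₁ := S.root₁.neg
  root₂ := S.root₂
  root := S.rootb
  rootb := S.root
  orth := by rw [form_neg_left, S.orth, neg_zero]
  len := by rw [form_neg_left, form_neg_right, neg_neg, S.len]
  add := by rw [S.sub]; abel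
  sub := by rw [S.add]; abel

theorem form_x₁ (S : Sq cs h m y₁ y₂ x b) : m * form cs h x y₁ = form cs h y₁ y₁ := by
  rw [← form_smul_left, S.add, form_add_left, form_comm cs h y₂ y₁, S.orth, add_zero]

theorem form_x₂ (S : Sq cs h m y₁ y₂ x b) : m * form cs h x y₂ = form cs h y₁ y₁ := by
  rw [← form_smul_left, S.add, form_add_left, S.orth, zero_add, S.len]

theorem form_b₁ (S : Sq cs h m y₁ y₂ x b) : m * form cs h b y₁ = -form cs h y₁ y₁ := by
  rw [← form_smul_left, S.sub, form_sub_left, form_comm cs h y₂ y₁, S.orth, zero_sub]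

theorem form_b₂ (S : Sq cs h m y₁ y₂ x b) : m * form cs h b y₂ = form cs h y₁ y₁ := by
  rw [← form_smul_left, S.sub, form_sub_left, S.orth, sub_zero, S.len]

theorem ypos (S : Sq cs h m y₁ y₂ x b) : 0 < form cs h y₁ y₁ := form_pos cs h S.root₁.ne_zero

theorem x₁_pos (S : Sq cs h m y₁ y₂ x b) : 0 < form cs h x y₁ :=
  (pos_iff_pos_of_mul_pos (by rw [S.form_x₁]; exact S.ypos)).1 S.pos

theorem x₂_pos (S : Sq cs h m y₁ y₂ x b) : 0 < form cs h x y₂ :=
  (pos_iff_pos_of_mul_pos (by rw [S.form_x₂]; exact S.ypos)).1 S.pos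

theorem b₂_pos (S : Sq cs h m y₁ y₂ x b) : 0 < form cs h b y₂ :=
  (pos_iff_pos_of_mul_pos (by rw [S.form_b₂]; exact S.ypos)).1 S.pos

theorem b₁_neg (S : Sq cs h m y₁ y₂ x b) : form cs h b y₁ < 0 := by
  have h1 : 0 < m * (-form cs h b y₁) := by
    rw [mul_neg, S.form_b₁, neg_neg]; exact S.ypos
  have := (pos_iff_pos_of_mul_pos h1).1 S.pos
  omega

theorem xb (S : Sq cs h m y₁ y₂ x b) : form cs h x b = 0 := by
  have h1 : m * form cs h x b = 0 := by
    have h2 : m * (m * form cs h x b) = 0 := by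
      rw [← form_smul_left, ← form_smul_right, S.add, S.sub, form_sub_right, form_add_left, form_add_left,
        form_comm cs h y₂ y₁, S.orth, S.len]
      ring
    exact (mul_eq_zero.1 h2).resolve_left S.pos.ne'
  exact (mul_eq_zero.1 h1).resolve_left S.pos.ne'

/-- `s_{y₁} b = x` -/
theorem refl_b (S : Sq cs h m y₁ y₂ x b) : b - cpr cs h b y₁ • y₁ = x := by
  have h1 := two_form_cpr cs h b S.root₁
  have h2 : m * cpr cs h b y₁ = -2 := by
    have : (m * cpr cs h b y₁) * form cs h y₁ y₁ = (-2) * form cs h y₁ y₁ := by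
      rw [mul_assoc, ← h1, mul_left_comm, S.form_b₁]; ring
    exact mul_right_cancel₀ S.ypos.ne' this
  have h3 : m • (b - cpr cs h b y₁ • y₁) = m • x := by
    rw [smul_sub, S.sub, smul_smul, h2, S.add]
    module
  exact smul_right_injective _ S.pos.ne' h3

theorem ne_smul (S : Sq cs h m y₁ y₂ x b) {i j : ℤ} (e : i • y₁ = j • y₂) : i = 0 ∧ j = 0 := by
  have h1 : i * form cs h y₁ y₁ = 0 := by
    rw [← form_smul_left, e, form_smul_left, form_comm cs h y₂ y₁, S.orth, mul_zero]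
  have h2 : j * form cs h y₂ y₂ = 0 := by
    rw [← form_smul_left, ← e, form_smul_left, S.orth, mul_zero]
  exact ⟨(mul_eq_zero.1 h1).resolve_right S.ypos.ne',
    (mul_eq_zero.1 h2).resolve_right (S.len ▸ S.ypos).ne'⟩

/-- The coordinates of a root of the plane of `y₁, y₂`. -/
theorem coord (S : Sq cs h m y₁ y₂ x b) {w : I → ℤ} {e c d : ℤ} (he : 0 < e) (hw : e • w = c • y₁ + d • y₂) :
    (2 : ℤ) • w = cpr cs h w y₁ • y₁ + cpr cs h w y₂ • y₂ ∧ e * cpr cs h w y₁ = 2 * c ∧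
      e * cpr cs h w y₂ = 2 * d := by
  have h1 := two_form_cpr cs h w S.root₁
  have h2 := two_form_cpr cs h w S.root₂
  have h3 : e * form cs h w y₁ = c * form cs h y₁ y₁ := by
    rw [← form_smul_left, hw, form_add_left, form_smul_left, form_smul_left, form_comm cs h y₂ y₁, S.orth,
      mul_zero, add_zero]
  have h4 : e * form cs h w y₂ = d * form cs h y₂ y₂ := by
    rw [← form_smul_left, hw, form_add_left, form_smul_left, form_smul_left, S.orth, mul_zero, zero_add]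
  have h5 : e * cpr cs h w y₁ = 2 * c := by
    have : (e * cpr cs h w y₁) * form cs h y₁ y₁ = (2 * c) * form cs h y₁ y₁ := by
      rw [mul_assoc, ← h1, mul_left_comm, h3]; ring
    exact mul_right_cancel₀ S.ypos.ne' this
  have h6 : e * cpr cs h w y₂ = 2 * d := by
    have : (e * cpr cs h w y₂) * form cs h y₂ y₂ = (2 * d) * form cs h y₂ y₂ := by
      rw [mul_assoc, ← h2, mul_left_comm, h4]; ring
    exact mul_right_cancel₀ (S.len ▸ S.ypos).ne' this
  refine ⟨?_, h5, h6⟩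
  refine smul_right_injective _ he.ne' ?_
  change e • ((2 : ℤ) • w) = e • (cpr cs h w y₁ • y₁ + cpr cs h w y₂ • y₂)
  rw [smul_add, smul_smul e (cpr cs h w y₁), smul_smul e (cpr cs h w y₂), h5, h6, smul_comm, hw]
  module

/-- The only root between `y₁` and `y₂` is `x`. -/
theorem btwn (S : Sq cs h m y₁ y₂ x b) {w : I → ℤ} (hw : Btwn cs h y₁ y₂ w) : w = x := by
  obtain ⟨hwr, e, c, d, he, hc, hd, ew⟩ := hw
  obtain ⟨h1, h2, h3⟩ := S.coord he ew
  set i := cpr cs h w y₁ with hi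
  set j := cpr cs h w y₂ with hj
  have hi0 : 0 < i := (pos_iff_pos_of_mul_pos (by rw [h2]; omega)).1 he
  have hj0 : 0 < j := (pos_iff_pos_of_mul_pos (by rw [h3]; omega)).1 he
  have f1 := two_form_cpr cs h w S.root₁
  have f2 := two_form_cpr cs h w S.root₂
  have g1 := two_form_cpr cs h y₁ hwr
  have g2 := two_form_cpr cs h y₂ hwr
  rw [form_comm cs h y₁ w] at g1
  rw [form_comm cs h y₂ w] at g2
  rw [← hi] at f1
  rw [← hj, ← S.len] at f2
  set i' := cpr cs h y₁ w with hi'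
  set j' := cpr cs h y₂ w with hj'
  have f3 : 4 * form cs h w w = (i * i + j * j) * form cs h y₁ y₁ := by
    have : 4 * form cs h w w = form cs h ((2 : ℤ) • w) ((2 : ℤ) • w) := by
      rw [form_smul_left, form_smul_right]; ring
    rw [this, h1, form_add_left, form_add_right, form_add_right, form_smul_left, form_smul_left, form_smul_left,
      form_smul_left, form_smul_right, form_smul_right, form_smul_right, form_smul_right, form_comm cs h y₂ y₁,
      S.orth, ← S.len]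
    ring
  have hy := S.ypos
  have hww := form_pos cs h hwr.ne_zero
  set Q := form cs h y₁ y₁ with hQ
  have k1 : i' * (i * i + j * j) = 4 * i := by
    have : (i' * (i * i + j * j)) * Q = (4 * i) * Q := by
      rw [mul_assoc, ← f3]
      have : i' * (4 * form cs h w w) = 4 * (i' * form cs h w w) := by ring
      rw [this, ← g1, f1]; ring
    exact mul_right_cancel₀ hy.ne' this
  have k2 : j' * (i * i + j * j) = 4 * j := by
    have : (j' * (i * i + j * j)) * Q = (4 * j) * Q := by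
      rw [mul_assoc, ← f3]
      have : j' * (4 * form cs h w w) = 4 * (j' * form cs h w w) := by ring
      rw [this, ← g2, f2]; ring
    exact mul_right_cancel₀ hy.ne' this
  have hN : 0 < i * i + j * j := by positivity
  have hi'0 : 0 < i' := by
    have : 0 < i' * (i * i + j * j) := by rw [k1]; omega
    exact (pos_iff_pos_of_mul_pos this).2 hN
  have hj'0 : 0 < j' := by
    have : 0 < j' * (i * i + j * j) := by rw [k2]; omega
    exact (pos_iff_pos_of_mul_pos this).2 hN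
  have b1 : i * i + j * j ≤ 4 * i := by nlinarith
  have b2 : i * i + j * j ≤ 4 * j := by nlinarith
  have hi4 : i < 4 := by nlinarith
  have hj4 : j < 4 := by nlinarith
  have hi'4 : i' ≤ 4 := by nlinarith
  have hij : i = j := by
    interval_cases i <;> interval_cases j <;> first | rfl | (exfalso; omega)
  refine Slope.eq_of_cross hwr S.root (c := 2) (d := i * m) two_pos (mul_pos hi0 S.pos) ?_
  rw [h1, ← hij, mul_smul, S.add, smul_add]

/-- The roots between `y₁` and `b` are `y₂` and `x`. -/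
theorem btwn' (S : Sq cs h m y₁ y₂ x b) {w : I → ℤ} (hw : Btwn cs h y₁ b w) : w = y₂ ∨ w = x := by
  obtain ⟨hwr, e, c, d, he, hc, hd, ew⟩ := hw
  have hm := S.pos
  have e1 : (m * e) • w = (m * c - d) • y₁ + d • y₂ := by
    rw [mul_smul, ew, smul_add, smul_smul, smul_comm m d b, S.sub]
    module
  obtain ⟨h1, h2, h3⟩ := S.coord (mul_pos hm he) e1
  have hj0 : 0 < cpr cs h w y₂ := (pos_iff_pos_of_mul_pos (by rw [h3]; omega)).1 (mul_pos hm he)
  rcases lt_trichotomy (cpr cs h w y₁) 0 with h4 | h4 | h4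
  · exfalso
    have h5 : Btwn cs h (-y₁) y₂ w := ⟨hwr, 2, -cpr cs h w y₁, cpr cs h w y₂, two_pos, by omega, hj0, by
      rw [h1]; module⟩
    have h6 := S.flip.btwn h5
    -- `w = b`
    have h7 : c * form cs h y₁ y₁ = (e - d) * form cs h b y₁ := by
      have h8 : c • y₁ = (e - d) • b := by
        rw [h6] at ew
        rw [sub_smul, ew]; abel
      rw [← form_smul_left, h8, form_smul_left]
    have h8 : (e - d) * form cs h b y₂ = 0 := by
      have h9 : c • y₁ = (e - d) • b := by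
        rw [h6] at ew
        rw [sub_smul, ew]; abel
      rw [← form_smul_left, ← h9, form_smul_left, S.orth, mul_zero]
    have h9 := (mul_eq_zero.1 h8).resolve_right S.b₂_pos.ne'
    rw [h9, zero_mul] at h7
    have := mul_pos hc S.ypos
    omega
  · left
    rw [h4, zero_smul, zero_add] at h1
    exact Slope.eq_of_cross hwr S.root₂ two_pos hj0 h1
  · right
    exact S.btwn ⟨hwr, 2, _, _, two_pos, h4, hj0, h1⟩

theorem ne₁ (S : Sq cs h m y₁ y₂ x b) : y₁ ≠ y₂ := by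
  intro e
  have := S.orth
  rw [← e] at this
  exact S.ypos.ne' this

theorem ne₂ (S : Sq cs h m y₁ y₂ x b) : y₁ ≠ -y₂ := by
  intro e
  have := S.orth
  have h1 : y₂ = -y₁ := by rw [e, neg_neg]
  rw [h1, form_neg_right] at this
  have := S.ypos
  omega

theorem ne_of_form {u v w : I → ℤ} (h1 : form cs h u w = 0) (h2 : form cs h v w ≠ 0) : u ≠ v ∧ u ≠ -v := by
  constructor
  · rintro rfl; exact h2 h1
  · rintro rfl
    rw [form_neg_left, neg_eq_zero] at h1
    exact h2 h1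

/-- `y₁ ≠ ± b` -/
theorem ne_b (S : Sq cs h m y₁ y₂ x b) : y₁ ≠ b ∧ y₁ ≠ -b := ne_of_form S.orth S.b₂_pos.ne'

theorem ne_x (S : Sq cs h m y₁ y₂ x b) : y₁ ≠ x ∧ y₁ ≠ -x := ne_of_form S.orth S.x₂_pos.ne'

/-- `y₂ ≠ ± b` -/
theorem ne_b₂ (S : Sq cs h m y₁ y₂ x b) : y₂ ≠ b ∧ y₂ ≠ -b :=
  ne_of_form (w := y₁) (by rw [form_comm]; exact S.orth) S.b₁_neg.ne

end Sq

/-! ### Groups -/

theorem btw_le {x y : I → ℤ} {K : Subgroup Y} (hK : ∀ w, Btwn cs h x y w → X w ≤ K) : btw cs h X x y ≤ K := by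
  unfold Reps.btw
  exact iSup_le fun ⟨w, hw⟩ => hK w hw

/-- Products of two commuting subgroups. -/
theorem mem_sup_of_cm {K L : Subgroup Y} (hc : ∀ a ∈ K, ∀ b ∈ L, a * b = b * a) {g : Y} (hg : g ∈ K ⊔ L) :
    ∃ a ∈ K, ∃ b ∈ L, g = a * b := by
  have h1 : K ≤ Subgroup.normalizer (L : Set Y) := fun a ha => by
    rw [Subgroup.mem_normalizer_iff]
    intro b
    constructor
    · intro hb
      rw [hc a ha b hb, mul_inv_cancel_right]
      exact hb
    · intro hb
      have h2 : b = a⁻¹ * (a * b * a⁻¹) * a := by group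
      rw [h2, hc a⁻¹ (inv_mem ha) _ hb, inv_mul_cancel_right]
      exact hb
  have h2 : g ∈ ((K ⊔ L : Subgroup Y) : Set Y) := hg
  rw [Subgroup.coe_mul_of_left_le_normalizer_right _ _ h1, Set.mem_mul] at h2
  obtain ⟨a, ha, b, hb, rfl⟩ := h2
  exact ⟨a, ha, b, hb, rfl⟩

end Copy

section Sq

variable [Fintype W] {m : ℤ} {y₁ y₂ x b : I → ℤ}

theorem swap (S : Sq cs h m y₁ y₂ x b) : Sq cs h m y₂ y₁ x (-b) where
  pos := S.pos
  root₁ := S.root₂
  root₂ := S.root₁
  root := S.root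
  rootb := S.rootb.neg
  orth := by rw [form_comm]; exact S.orth
  len := S.len.symm
  add := by rw [S.add, add_comm]
  sub := by rw [smul_neg, S.sub]; abel

/-- There is no root between `y₁` and `x`. -/
theorem no_btwn (S : Sq cs h m y₁ y₂ x b) {w : I → ℤ} (hw : Btwn cs h y₁ x w) : False := by
  obtain ⟨hwr, e, c, d, he, hc, hd, ew⟩ := hw
  have hm := S.pos
  have e1 : (m * e) • w = (m * c + d) • y₁ + d • y₂ := by
    rw [mul_smul, ew, smul_add, smul_smul, smul_comm m d x, S.add]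
    module
  have h1 := S.btwn ⟨hwr, m * e, m * c + d, d, mul_pos hm he, by positivity, hd, e1⟩
  subst h1
  have h2 : (e - d) • w = c • y₁ := by rw [sub_smul, ew]; abel
  have h3 : (e - d) * form cs h w y₂ = 0 := by
    rw [← form_smul_left, h2, form_smul_left, S.orth, mul_zero]
  have h4 := (mul_eq_zero.1 h3).resolve_right S.x₂_pos.ne'
  rw [h4, zero_smul] at h2
  exact S.root₁.ne_zero ((smul_eq_zero.1 h2.symm).resolve_left hc.ne')

end Sq

/-- The plane of type `B₂`: `m` long, `x` short, at 135 degrees. -/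
structure Pl (cs : CoxeterSystem M W) (h : IsCartan M A) (m x : I → ℤ) : Prop where
  rm : IsRoot cs h m
  rx : IsRoot cs h x
  cmx : cpr cs h m x = -2
  cxm : cpr cs h x m = -1

namespace Pl

variable [Finite W] {m x : I → ℤ} (P : Pl cs h m x)

include P

/-- `m + x` is a root. -/
theorem r1 : IsRoot cs h (m + x) := by
  have := isRoot_refl cs h P.rx P.rm
  rwa [P.cxm, neg_one_smul, sub_neg_eq_add, add_comm] at this

/-- `m + 2x` is a root. -/
theorem r2 : IsRoot cs h (m + (2 : ℤ) • x) := by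
  have := isRoot_refl cs h P.rm P.rx
  rwa [P.cmx, neg_smul, sub_neg_eq_add] at this

theorem c1 : cpr cs h (m + x) x = 0 := by
  rw [cpr_add cs h _ _ P.rx, P.cmx, cpr_self cs h P.rx]; norm_num

theorem sq [Fintype W] : Sq cs h 1 x (m + x) (m + (2 : ℤ) • x) m where
  pos := one_pos
  root₁ := P.rx
  root₂ := P.r1
  root := P.r2
  rootb := P.rm
  orth := by
    rw [form_comm]
    exact (cpr_zero_iff cs h (m + x) P.rx).1 P.c1
  len := by
    have e1 := two_form_cpr cs h m P.rx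
    have e2 := two_form_cpr cs h x P.rm
    rw [P.cmx] at e1
    rw [P.cxm, form_comm cs h x m] at e2
    rw [form_add_left, form_add_right, form_add_right, form_comm cs h x m]
    linarith
  add := by rw [one_smul, two_smul]; abel
  sub := by rw [one_smul]; abel

theorem neg_sq [Fintype W] : form cs h (m + (3 : ℤ) • x) m < 0 := by
  have e1 := two_form_cpr cs h m P.rx
  have e2 := two_form_cpr cs h x P.rm
  rw [P.cmx] at e1
  rw [P.cxm, form_comm cs h x m] at e2
  have h1 := form_pos cs h P.rx.ne_zero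
  rw [form_add_left, form_smul_left, form_comm cs h x m]
  linarith

theorem pos_sq1 [Fintype W] : 0 < form cs h (m + (3 : ℤ) • x) (m + x) := by
  have e1 := two_form_cpr cs h m P.rx
  have e2 := two_form_cpr cs h x P.rm
  rw [P.cmx] at e1
  rw [P.cxm, form_comm cs h x m] at e2
  have h1 := form_pos cs h P.rx.ne_zero
  rw [form_add_left, form_smul_left, form_add_right, form_add_right, form_comm cs h x m]
  linarith

theorem pos_sq2 [Fintype W] : 0 < form cs h (m + (3 : ℤ) • x) (m + (2 : ℤ) • x) := by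
  have e1 := two_form_cpr cs h m P.rx
  have e2 := two_form_cpr cs h x P.rm
  rw [P.cmx] at e1
  rw [P.cxm, form_comm cs h x m] at e2
  have h1 := form_pos cs h P.rx.ne_zero
  rw [form_add_left, form_smul_left, form_add_right, form_add_right, form_smul_right, form_smul_right,
    form_comm cs h x m]
  linarith

end Pl

/-! ### Groups -/

section Group

variable (R : RGD cs h p T n X)

include R

/-- Root groups on different sides of a hyperplane. -/
theorem eq_one_of_form [Fintype W] {v m : I → ℤ} (hm : IsRoot cs h m) (hvm : form cs h v m < 0) {S : Set (I → ℤ)}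
    (hS : ∀ z ∈ S, IsRoot cs h z ∧ 0 < form cs h v z) {g : Y} (hg : g ∈ X m) (hg' : g ∈ RGD.Sup X S) : g = 1 := by
  obtain ⟨w, hw⟩ := exists_dom_rep cs h v
  have hpos : ∀ z, IsRoot cs h z → 0 < form cs h v z → 0 ≤ rep cs h w z := by
    intro z hz hvz
    rcases (hz.act w).pos_or_neg with h3 | h3
    · exact h3
    · exfalso
      have h4 := form_nonneg_of_dom cs h hw (neg_nonneg.2 h3)
      rw [form_neg_right, form_rep] at h4
      linarith
  obtain ⟨k, hk⟩ := exists_rp cs R.nsys w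
  have h1 : cj k (RGD.Sup X S) ≤ RGD.Sup X (RGD.Pos cs h) := by
    rw [RGD.cj_Sup]
    refine iSup_le ?_
    rintro ⟨z, hz⟩
    rw [R.conj_rp hk (hS z hz).1]
    exact RGD.le_Sup (S := RGD.Pos cs h) ⟨(hS z hz).1.act w, hpos z (hS z hz).1 (hS z hz).2⟩
  have h2 : k * g * k⁻¹ ∈ RGD.Sup X (RGD.Pos cs h) := h1 (conj_mem_cj.2 hg')
  have h3 : k * g * k⁻¹ ∈ X (rep cs h w m) := R.conj_mem hk hm hg
  have h4 : rep cs h w m ≤ 0 := by
    have := hpos (-m) hm.neg (by rw [form_neg_right]; linarith)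
    rw [map_neg] at this
    exact neg_nonneg.1 this
  have h5 := eq_one_of_mem_U_of_mem_BN R h2 (X_le_BN (hm.act w) h4 h3)
  have : g = k⁻¹ * (k * g * k⁻¹) * k := by group
  rw [this, h5]; group

/-! ### The fact (F4) -/

variable [Finite W] {m x : I → ℤ} (P : Pl cs h m x)

include P

/-- The contradiction. -/
theorem false_of (hTm : ∀ t ∈ T, ∀ v ∈ X m, t * v = v * t)
    (hTz : ∀ t ∈ T, ∀ v ∈ X (m + (2 : ℤ) • x), t * v = v * t)
    (hTx : ∀ u ∈ X x, u ≠ 1 → ∀ u' ∈ X x, u' ≠ 1 → ∃ t ∈ T, t * u * t⁻¹ = u')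
    (h3 : 2 < Nat.card (X x)) {u₀ : Y} (hu₀ : u₀ ∈ X x) (hu1 : u₀ ≠ 1)
    (hcom : ∀ c ∈ X (m + x), u₀ * c = c * u₀) : False := by
  have := Fintype.ofFinite W
  have S := P.sq
  have r1 := P.r1
  have r2 := P.r2
  -- `X x` centralises `X (m + x)`
  have hA : ∀ u ∈ X x, ∀ c ∈ X (m + x), u * c = c * u := by
    intro u hu c hc
    by_cases h0 : u = 1
    · rw [h0, one_mul, mul_one]
    obtain ⟨t, ht, rfl⟩ := hTx u₀ hu₀ hu1 u hu h0
    have h1 : t⁻¹ * c * t ∈ X (m + x) := by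
      have h2 : cj t⁻¹ (X (m + x)) = X (m + x) := R.tor _ r1 _ (inv_mem ht)
      rw [← h2]
      have := conj_mem_cj (g := t⁻¹).2 hc
      rwa [inv_inv] at this
    have h2 := hcom _ h1
    calc t * u₀ * t⁻¹ * c = t * (u₀ * (t⁻¹ * c * t)) * t⁻¹ := by group
      _ = t * (t⁻¹ * c * t * u₀) * t⁻¹ := by rw [h2]
      _ = c * (t * u₀ * t⁻¹) := by group
  obtain ⟨s, hs, a, ha, b, hb, μ, hμ, he⟩ := exists_mu R P.rx hu₀ hu1
  -- `X (-x)` centralises `X (m + x)`
  have sx : rep cs h s⁻¹ (-x) = x := by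
    have h1 : rep cs h s x = -x := by rw [hs, cpr_self cs h P.rx]; module
    rw [← h1, rep_inv_apply]
  have s1 : rep cs h s⁻¹ (m + x) = m + x := by
    have h1 : rep cs h s (m + x) = m + x := by rw [hs, P.c1, zero_smul, sub_zero]
    conv_lhs => rw [← h1]
    rw [rep_inv_apply]
  have hB : ∀ u ∈ X (-x), ∀ c ∈ X (m + x), u * c = c * u := by
    intro u hu c hc
    have h1 : μ⁻¹ * u * μ ∈ X x := by
      have := R.conj_mem' hμ P.rx.neg hu
      rwa [sx] at this
    have h2 : μ⁻¹ * c * μ ∈ X (m + x) := by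
      have := R.conj_mem' hμ r1 hc
      rwa [s1] at this
    have h3 := hA _ h1 _ h2
    calc u * c = μ * ((μ⁻¹ * u * μ) * (μ⁻¹ * c * μ)) * μ⁻¹ := by group
      _ = μ * ((μ⁻¹ * c * μ) * (μ⁻¹ * u * μ)) * μ⁻¹ := by rw [h3]
      _ = c * u := by group
  -- commuting root groups
  have ne_of : ∀ {y z w : I → ℤ}, form cs h y w < form cs h z w → y ≠ z := by
    rintro y z w h0 rfl; exact lt_irrefl _ h0
  have cmz : ∀ c ∈ X (m + x), ∀ d ∈ X (m + (2 : ℤ) • x), c * d = d * c := fun c hc d hd =>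
    comm_of_not_btwn R r1 r2 (swap S).ne_x.1 (swap S).ne_x.2 (fun z hz => no_btwn (swap S) hz) hc hd
  have cxz : ∀ u ∈ X x, ∀ d ∈ X (m + (2 : ℤ) • x), u * d = d * u := fun u hu d hd =>
    comm_of_not_btwn R P.rx r2 S.ne_x.1 S.ne_x.2 (fun z hz => no_btwn S hz) hu hd
  have cnm : ∀ u ∈ X (-x), ∀ v ∈ X m, u * v = v * u := fun u hu v hv =>
    comm_of_not_btwn R P.rx.neg P.rm S.flip.ne_x.1 S.flip.ne_x.2 (fun z hz => no_btwn S.flip hz) hu hv
  have hdis : X (m + x) ⊓ X (m + (2 : ℤ) • x) = ⊥ := X_inf_X R r1 r2 (swap S).ne_x.1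
  obtain ⟨v, hv, hv1⟩ : ∃ v ∈ X m, v ≠ 1 := by
    have := X_ne_bot R P.rm
    rw [Subgroup.ne_bot_iff_exists_ne_one] at this
    obtain ⟨⟨v, hv⟩, h1⟩ := this
    exact ⟨v, hv, fun h2 => h1 (Subtype.ext h2)⟩
  -- the decomposition
  have dec : ∀ u ∈ X x, ∃ c ∈ X (m + x), ∃ d ∈ X (m + (2 : ℤ) • x), ⁅v, u⁆ = c * d := by
    intro u hu
    have h1 := R.comm m x P.rm P.rx S.ne_b.1.symm (fun h0 => S.ne_b.2 (by rw [h0, neg_neg])) v hv u hu
    have h2 : btw cs h X m x ≤ X (m + x) ⊔ X (m + (2 : ℤ) • x) := by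
      refine btw_le fun w hw => ?_
      rcases S.btwn' hw.symm with rfl | rfl
      · exact le_sup_left
      · exact le_sup_right
    exact mem_sup_of_cm cmz (h2 h1)
  have uni : ∀ c ∈ X (m + x), ∀ d ∈ X (m + (2 : ℤ) • x), ∀ c' ∈ X (m + x), ∀ d' ∈ X (m + (2 : ℤ) • x),
      c * d = c' * d' → d = d' := by
    intro c hc d hd c' hc' d' hd' e
    have h1 : c'⁻¹ * c = d' * d⁻¹ := by
      calc c'⁻¹ * c = c'⁻¹ * (c * d) * d⁻¹ := by group
        _ = c'⁻¹ * (c' * d') * d⁻¹ := by rw [e]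
        _ = d' * d⁻¹ := by group
    have h2a : d' * d⁻¹ ∈ X (m + x) := by
      rw [← h1]; exact mul_mem (inv_mem hc') hc
    have h2 : d' * d⁻¹ ∈ X (m + x) ⊓ X (m + (2 : ℤ) • x) := Subgroup.mem_inf.2 ⟨h2a, mul_mem hd' (inv_mem hd)⟩
    rw [hdis, Subgroup.mem_bot, mul_inv_eq_one] at h2
    exact h2.symm
  obtain ⟨c₀, hc₀, δ, hδ, e₀⟩ := dec u₀ hu₀
  have all : ∀ u ∈ X x, u ≠ 1 → ∃ c ∈ X (m + x), ⁅v, u⁆ = c * δ := by
    intro u hu h0
    obtain ⟨t, ht, rfl⟩ := hTx u₀ hu₀ hu1 u hu h0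
    refine ⟨t * c₀ * t⁻¹, ?_, ?_⟩
    · have h2 : cj t (X (m + x)) = X (m + x) := R.tor _ r1 _ ht
      rw [← h2]
      exact conj_mem_cj.2 hc₀
    · have h1 : t * v * t⁻¹ = v := by rw [hTm t ht v hv]; group
      have h2 : t * δ * t⁻¹ = δ := by rw [hTz t ht δ hδ]; group
      calc ⁅v, t * u₀ * t⁻¹⁆ = ⁅t * v * t⁻¹, t * u₀ * t⁻¹⁆ := by rw [h1]
        _ = t * ⁅v, u₀⁆ * t⁻¹ := by rw [commutatorElement_def, commutatorElement_def]; group
        _ = (t * c₀ * t⁻¹) * (t * δ * t⁻¹) := by rw [e₀]; group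
        _ = _ := by rw [h2]
  -- `δ = 1`
  obtain ⟨u₁, hu₁, h10, h11⟩ : ∃ u ∈ X x, u ≠ 1 ∧ u₀ * u ≠ 1 := by
    by_contra hcon
    push Not at hcon
    have h4 : ∀ u : X x, u = 1 ∨ u = ⟨u₀⁻¹, inv_mem hu₀⟩ := by
      intro u
      by_cases h0 : (u : Y) = 1
      · exact Or.inl (Subtype.ext h0)
      · right
        exact Subtype.ext (eq_inv_of_mul_eq_one_right (hcon u u.2 h0))
    have h5 : Nat.card (X x) ≤ 2 := by
      have h6 : Function.Surjective (fun i : Fin 2 => if i = 0 then (1 : X x) else ⟨u₀⁻¹, inv_mem hu₀⟩) := by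
        intro u
        rcases h4 u with rfl | rfl
        · exact ⟨0, rfl⟩
        · exact ⟨1, rfl⟩
      have h7 := Nat.card_le_card_of_surjective _ h6
      have h8 : Nat.card (Fin 2) = 2 := by simp
      rwa [h8] at h7
    omega
  obtain ⟨c₁, hc₁, e₁⟩ := all u₁ hu₁ h10
  obtain ⟨c₂, hc₂, e₂⟩ := all _ (mul_mem hu₀ hu₁) h11
  have hδ1 : δ = 1 := by
    have h4 : ⁅v, u₀ * u₁⁆ = (c₀ * c₁) * (δ * δ) := by
      have h5 : ⁅v, u₀ * u₁⁆ = ⁅v, u₀⁆ * (u₀ * ⁅v, u₁⁆ * u₀⁻¹) := by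
        rw [commutatorElement_def, commutatorElement_def, commutatorElement_def]; group
      have h6 : u₀ * (c₁ * δ) * u₀⁻¹ = c₁ * δ := by
        rw [← mul_assoc, hA _ hu₀ _ hc₁, mul_assoc c₁, cxz _ hu₀ _ hδ]; group
      rw [h5, e₁, h6, e₀]
      calc c₀ * δ * (c₁ * δ) = c₀ * (δ * c₁) * δ := by group
        _ = c₀ * (c₁ * δ) * δ := by rw [cmz _ hc₁ _ hδ]
        _ = _ := by group
    have h7 := uni _ (mul_mem hc₀ hc₁) _ (mul_mem hδ hδ) _ hc₂ _ hδ (by rw [← h4, e₂])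
    exact left_eq_mul.1 h7.symm
  -- the end
  rw [hδ1, mul_one] at e₀
  have sm : rep cs h s m = m + (2 : ℤ) • x := by rw [hs, P.cmx]; module
  have h4 : μ * v * μ⁻¹ ∈ X (m + (2 : ℤ) • x) := by
    have := R.conj_mem hμ P.rm hv
    rwa [sm] at this
  have h5 : μ * v * μ⁻¹ = c₀⁻¹ * v := by
    have h6 : b * v * b⁻¹ = v := by rw [cnm b hb v hv]; group
    have h7 : u₀ * v * u₀⁻¹ = c₀⁻¹ * v := by
      rw [← e₀, commutatorElement_inv, commutatorElement_def]; group
    have h8 : a * (c₀⁻¹ * v) * a⁻¹ = c₀⁻¹ * v := by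
      rw [← mul_assoc, hB a ha _ (inv_mem hc₀), mul_assoc _ a, cnm a ha v hv]; group
    calc μ * v * μ⁻¹ = a * (u₀ * (b * v * b⁻¹) * u₀⁻¹) * a⁻¹ := by rw [he]; group
      _ = c₀⁻¹ * v := by rw [h6, h7, h8]
  apply hv1
  refine eq_one_of_form R (v := m + (3 : ℤ) • x) (m := m) P.rm P.neg_sq
    (S := {z | z = m + x ∨ z = m + (2 : ℤ) • x}) ?_ hv ?_
  · rintro z (rfl | rfl)
    · exact ⟨r1, P.pos_sq1⟩
    · exact ⟨r2, P.pos_sq2⟩
  · have h9 : v = c₀ * (μ * v * μ⁻¹) := by rw [h5]; group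
    rw [h9]
    exact mul_mem (RGD.le_Sup (S := {z | z = m + x ∨ z = m + (2 : ℤ) • x}) (Or.inl rfl) hc₀)
      (RGD.le_Sup (S := {z | z = m + x ∨ z = m + (2 : ℤ) • x}) (Or.inr rfl) h4)

/-- **(F4)** -/
theorem exists_not_comm (hTm : ∀ t ∈ T, ∀ v ∈ X m, t * v = v * t)
    (hTz : ∀ t ∈ T, ∀ v ∈ X (m + (2 : ℤ) • x), t * v = v * t)
    (hTx : ∀ u ∈ X x, u ≠ 1 → ∀ u' ∈ X x, u' ≠ 1 → ∃ t ∈ T, t * u * t⁻¹ = u')
    (h3 : 2 < Nat.card (X x)) {u : Y} (hu : u ∈ X x) (hu1 : u ≠ 1) : ∃ c ∈ X (m + x), u * c ≠ c * u := by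
  by_contra hcon
  push Not at hcon
  exact false_of R P hTm hTz hTx h3 hu hu1 hcon

end Group

end Cfsg.Agent.Omega.EH3Close.CThree.Orth
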