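import Cfsg.Agent.Omega.EH3Close.CThree.Table

/-!
# The row `C₃(4,4,2)`: the torus on the root groups (helper616)

`card_X` : the long root groups have order `2`, the short ones order `4`; `tor_long`, `tor_short`; `comm_self`,
`long_orth`.
-/

set_option autoImplicit false
set_option linter.unusedSectionVars false

namespace Cfsg.Agent.Omega.EH3Close.CThree

open CoxeterSystem Cfsg.Agent.ChevalleyStructure.CoxeterGeom Cfsg.Agent.Tits.Roots Cfsg.Agent.Tits.Core
  Cfsg.Agent.Tits.Exchange Cfsg.Agent.Nodes.Comb Cfsg.Agent.Nodes.Reps Cfsg.Agent.Nodes.BNOf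
  Cfsg.Agent.Nodes.StabComb
  Cfsg.Agent.Nodes.Bruhat Cfsg.Agent.Nodes.OppDec Cfsg.Agent.Nodes.PosPair Cfsg.Agent.Nodes.Coroot
  Cfsg.Agent.KFacts.RgdSL Cfsg.Agent.Omega.EH3Close.LeadU Cfsg.Agent.Omega.EH3Close.RgdLead
  Cfsg.Agent.Omega.EH3Close.Roots
open scoped commutatorElement

/-! ### Groups of order 2 and of order > 2 -/

theorem eq_of_card_two {G : Type*} [Group G] {H : Subgroup G} (h2 : Nat.card H = 2) {u v : G} (hu : u ∈ H)
    (hv : v ∈ H) (hu1 : u ≠ 1) (hv1 : v ≠ 1) : u = v := by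
  by_contra hne
  have hf : Finite H := Nat.finite_of_card_ne_zero (by rw [h2]; norm_num)
  have h3 : (⟨u, hu⟩ : H) ≠ ⟨v, hv⟩ := fun e => hne (congrArg Subtype.val e)
  have h4 : (⟨u, hu⟩ : H) ≠ 1 := fun e => hu1 (congrArg Subtype.val e)
  have h5 : (⟨v, hv⟩ : H) ≠ 1 := fun e => hv1 (congrArg Subtype.val e)
  obtain ⟨a, b, hab, he⟩ := Nat.card_eq_two_iff.1 h2
  have m1 : ∀ c : H, c = a ∨ c = b := by
    intro c
    have : c ∈ ({a, b} : Set H) := by rw [he]; trivial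
    simpa using this
  rcases m1 ⟨u, hu⟩ with e1 | e1 <;> rcases m1 ⟨v, hv⟩ with e2 | e2 <;> rcases m1 1 with e3 | e3
  · exact h3 (e1.trans e2.symm)
  · exact h3 (e1.trans e2.symm)
  · exact h4 (e1.trans e3.symm)
  · exact h5 (e2.trans e3.symm)
  · exact h5 (e2.trans e3.symm)
  · exact h4 (e1.trans e3.symm)
  · exact h3 (e1.trans e2.symm)
  · exact h3 (e1.trans e2.symm)

/-- two nontrivial elements with a nontrivial product -/
theorem exists_two_of_card {G : Type*} [Group G] {H : Subgroup G} (h4 : Nat.card H = 4) :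
    ∃ u ∈ H, ∃ v ∈ H, u ≠ 1 ∧ v ≠ 1 ∧ u * v ≠ 1 := by
  classical
  have hf : Finite H := Nat.finite_of_card_ne_zero (by rw [h4]; norm_num)
  have := Fintype.ofFinite H
  obtain ⟨u, hu⟩ : ∃ u : H, u ≠ 1 := by
    by_contra hcon
    push Not at hcon
    have h1 : (Finset.univ : Finset H).card ≤ ({1} : Finset H).card :=
      Finset.card_le_card fun x _ => by rw [hcon x]; simp
    rw [Finset.card_univ, ← Nat.card_eq_fintype_card, h4] at h1
    simp at h1
  obtain ⟨v, hv1, hv2⟩ : ∃ v : H, v ≠ 1 ∧ v ≠ u⁻¹ := by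
    by_contra hcon
    push Not at hcon
    have h1 : (Finset.univ : Finset H).card ≤ ({1, u⁻¹} : Finset H).card :=
      Finset.card_le_card fun x _ => by
        by_cases hx : x = 1
        · rw [hx]; simp
        · rw [hcon x hx]; simp
    rw [Finset.card_univ, ← Nat.card_eq_fintype_card, h4] at h1
    have h2 : ({1, u⁻¹} : Finset H).card ≤ 2 := Finset.card_le_two
    omega
  refine ⟨u, u.2, v, v.2, fun e => hu (Subtype.ext e), fun e => hv1 (Subtype.ext e), fun e => hv2 ?_⟩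
  have h1 : u * v = 1 := Subtype.ext e
  exact (inv_eq_of_mul_eq_one_right h1).symm

variable {W Y : Type*} [Group W] [Group Y] {cs : CoxeterSystem (CoxeterMatrix.B 3) W}
  {h : IsCartan (CoxeterMatrix.B 3) AC3} {p : ℕ} {T : Subgroup Y} {n : Fin 3 → Y} {X : (Fin 3 → ℤ) → Subgroup Y}
  (R : RGD cs h p T n X)

include R

/-- the orders of the root groups -/
theorem card_X (hq : ∀ j, Nat.card (X (sr j)) = (![4, 4, 2] : Fin 3 → ℕ) j) {x : Fin 3 → ℤ} (hx : IsRoot cs h x) :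
    Nat.card (X x) = if lg x then 2 else 4 := by
  obtain ⟨w, i, rfl⟩ := hx
  obtain ⟨g, hg⟩ := exists_rp cs R.nsys w
  rw [(lg_rep w _ (mem_AL (isRoot_sr cs h i))).2, ← R.conj_rp hg (isRoot_sr cs h i)]
  have h1 : Nat.card (cj g (X (sr i))) = Nat.card (X (sr i)) := by
    unfold cj
    exact (Nat.card_congr ((X (sr i)).equivMapOfInjective _ (MulAut.conj g).injective).toEquiv).symm
  rw [h1, hq]
  have h2 : ∀ i : Fin 3, (![4, 4, 2] : Fin 3 → ℕ) i = if lg (sr i) then 2 else 4 := by decide +kernel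
  exact h2 i

theorem card_long (hq : ∀ j, Nat.card (X (sr j)) = (![4, 4, 2] : Fin 3 → ℕ) j) {x : Fin 3 → ℤ} (hx : IsRoot cs h x)
    (hl : lg x = true) : Nat.card (X x) = 2 := by rw [card_X R hq hx, if_pos hl]

theorem card_short (hq : ∀ j, Nat.card (X (sr j)) = (![4, 4, 2] : Fin 3 → ℕ) j) {x : Fin 3 → ℤ} (hx : IsRoot cs h x)
    (hl : lg x = false) : Nat.card (X x) = 4 := by rw [card_X R hq hx, if_neg (by rw [hl]; simp)]

theorem tor_mem {x : Fin 3 → ℤ} (hx : IsRoot cs h x) {t u : Y} (ht : t ∈ T) (hu : u ∈ X x) : t * u * t⁻¹ ∈ X x := by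
  rw [← R.tor x hx t ht]
  exact conj_mem_cj.2 hu

/-- `T` centralises the root groups of order 2 -/
theorem tor_two {x : Fin 3 → ℤ} (hx : IsRoot cs h x) (h2 : Nat.card (X x) = 2) {t u : Y} (ht : t ∈ T) (hu : u ∈ X x) :
    t * u * t⁻¹ = u := by
  by_cases hu1 : u = 1
  · rw [hu1]; group
  · refine eq_of_card_two h2 (tor_mem R hx ht hu) hu (fun e => hu1 ?_) hu1
    have : u = t⁻¹ * (t * u * t⁻¹) * t := by group
    rw [this, e]; group

/-- **`T` centralises the long root groups** -/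
theorem tor_long (hq : ∀ j, Nat.card (X (sr j)) = (![4, 4, 2] : Fin 3 → ℕ) j) {x : Fin 3 → ℤ} (hx : IsRoot cs h x)
    (hl : lg x = true) {t u : Y} (ht : t ∈ T) (hu : u ∈ X x) : t * u * t⁻¹ = u :=
  tor_two R hx (card_long R hq hx hl) ht hu

/-- **`T` is transitive on the nontrivial elements of a short root group** -/
theorem tor_short [Finite W] {x : Fin 3 → ℤ} (hx : IsRoot cs h x) (hl : lg x = false) {u v : Y} (hu : u ∈ X x)
    (hu1 : u ≠ 1) (hv : v ∈ X x) (hv1 : v ≠ 1) : ∃ t ∈ T, t * u * t⁻¹ = v := by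
  obtain ⟨y, hA⟩ := exists_a2 hx hl
  obtain ⟨t, ht, he⟩ := A2.tor_trans R hA hu hu1 hv hv1
  exact ⟨t, ht.1, he⟩

/-- root groups are abelian -/
theorem comm_self' [Finite W] (hq : ∀ j, Nat.card (X (sr j)) = (![4, 4, 2] : Fin 3 → ℕ) j) {x : Fin 3 → ℤ}
    (hx : IsRoot cs h x) : ∀ u ∈ X x, ∀ v ∈ X x, u * v = v * u := by
  intro u hu v hv
  by_cases hl : lg x = true
  · by_cases hu1 : u = 1
    · rw [hu1]; group
    by_cases hv1 : v = 1
    · rw [hv1]; group
    rw [eq_of_card_two (card_long R hq hx hl) hu hv hu1 hv1]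
  · have h4 := card_short R hq hx (by simpa using hl)
    have : Fact (Nat.Prime 2) := ⟨Nat.prime_two⟩
    have h5 := IsPGroup.isMulCommutative_of_card_eq_prime_sq (p := 2) (G := X x) (by rw [h4]; norm_num)
    have h6 := h5.is_comm.comm ⟨u, hu⟩ ⟨v, hv⟩
    exact congrArg Subtype.val h6

theorem exists_ne_one' {x : Fin 3 → ℤ} (hx : IsRoot cs h x) : ∃ u ∈ X x, u ≠ 1 := by
  have := X_ne_bot R hx
  rw [Subgroup.ne_bot_iff_exists_ne_one] at this
  obtain ⟨⟨a, ha⟩, h1⟩ := this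
  exact ⟨a, ha, fun h2 => h1 (Subtype.ext h2)⟩

/-- **two long roots with a short root between them commute** -/
theorem long_orth [Finite W] (hq : ∀ j, Nat.card (X (sr j)) = (![4, 4, 2] : Fin 3 → ℕ) j) {x y z : Fin 3 → ℤ}
    (hx : IsRoot cs h x) (hy : IsRoot cs h y) (hz : IsRoot cs h z) (hxy : x ≠ y) (hxy' : x ≠ -y) (lx : lg x = true)
    (ly : lg y = true) (lz : lg z = false) (hb : ∀ z', Btwn cs h x y z' → z' = z) {u v : Y} (hu : u ∈ X x)
    (hv : v ∈ X y) : u * v = v * u := by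
  rw [← commutatorElement_eq_one_iff_mul_comm]
  by_contra hne
  have h1 : ⁅u, v⁆ ∈ X z := btw_le_of hb (R.comm x y hx hy hxy hxy' u hu v hv)
  have h2 : ∀ t ∈ T, t * ⁅u, v⁆ * t⁻¹ = ⁅u, v⁆ := by
    intro t ht
    have e : t * ⁅u, v⁆ * t⁻¹ = ⁅t * u * t⁻¹, t * v * t⁻¹⁆ := by
      simp only [commutatorElement_def]; group
    rw [e, tor_long R hq hx lx ht hu, tor_long R hq hy ly ht hv]
  obtain ⟨a, ha, b, hb', ha1, hb1, hab⟩ := exists_two_of_card (card_short R hq hz lz)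
  obtain ⟨t, ht, e1⟩ := tor_short R hz lz h1 hne ha ha1
  obtain ⟨t', ht', e2⟩ := tor_short R hz lz h1 hne hb' hb1
  obtain ⟨t'', ht'', e3⟩ := tor_short R hz lz h1 hne (mul_mem ha hb') hab
  rw [h2 t ht] at e1
  rw [h2 t' ht'] at e2
  rw [h2 t'' ht''] at e3
  rw [← e1, ← e2] at e3
  exact hne (left_eq_mul.1 e3)

end Cfsg.Agent.Omega.EH3Close.CThree
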