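import Cfsg.Agent.Omega.EH3Close.CThree.Table
import Cfsg.Agent.Omega.EH3Close.CThree.Ang
import Cfsg.Agent.Omega.EH3Close.CThree.Abs
import Cfsg.Agent.Omega.EH3Close.CThree.Short
import Cfsg.Agent.Omega.EH3Close.CThree.Orth
import Cfsg.Agent.Omega.EH3Close.Star

/-!
# The row `C₃(4,4,2)`: quadratic normal subgroups (helper635)

`Fac T X` : the facts on the root groups. `card_le` : an abelian quadratic normal subgroup of `U` has order at most `2^5`.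
-/

set_option autoImplicit false
set_option linter.unusedSectionVars false
set_option Elab.async false

namespace Cfsg.Agent.Omega.EH3Close.CThree

open CoxeterSystem Cfsg.Agent.ChevalleyStructure.CoxeterGeom Cfsg.Agent.Tits.Roots Cfsg.Agent.Tits.Core
  Cfsg.Agent.Tits.Exchange Cfsg.Agent.Nodes.Reps Cfsg.Agent.Nodes.BNOf Cfsg.Agent.Nodes.StabComb
  Cfsg.Agent.Nodes.Bruhat Cfsg.Agent.Nodes.OppDec Cfsg.Agent.Nodes.PosPair Cfsg.Agent.Nodes.Coroot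
  Cfsg.Agent.Nodes.LeviDec Cfsg.Agent.KFacts.RgdSL Cfsg.Agent.Omega.EH3Close.LeadU
  Cfsg.Agent.Omega.EH3Close.RgdLead Cfsg.Agent.Omega.EH3Close.Roots

/-! ### Groups -/

section

variable {Y : Type*} [Group Y]

theorem comm_of_card {K : Subgroup Y} (hK : Nat.card K = 4 ∨ Nat.card K = 2) : ∀ u ∈ K, ∀ v ∈ K, u * v = v * u := by
  have key : ∀ u v : K, u * v = v * u := by
    rcases hK with hK | hK
    · have : Fact (Nat.Prime 2) := ⟨Nat.prime_two⟩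
      have h1 := IsPGroup.isMulCommutative_of_card_eq_prime_sq (p := 2) (G := K) (by rw [hK]; norm_num)
      exact fun u v => h1.is_comm.comm u v
    · have : Fact (Nat.Prime 2) := ⟨Nat.prime_two⟩
      have := isCyclic_of_prime_card (p := 2) hK
      intro u v
      exact (IsCyclic.commGroup (α := K)).mul_comm u v
  intro u hu v hv
  exact congrArg Subtype.val (key ⟨u, hu⟩ ⟨v, hv⟩)

/-- the elements commuting with `x` modulo `Z` -/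
def cz (Z : Subgroup Y) (x : Y) : Subgroup Y where
  carrier := {y | (∀ z ∈ Z, z * y = y * z) ∧ x * y * x⁻¹ * y⁻¹ ∈ Z}
  one_mem' := ⟨fun z _ => by rw [one_mul, mul_one], by
    have : x * 1 * x⁻¹ * (1 : Y)⁻¹ = 1 := by group
    rw [this]; exact one_mem _⟩
  mul_mem' := by
    rintro y y' ⟨h1, h2⟩ ⟨h3, h4⟩
    refine ⟨fun z hz => by rw [← mul_assoc, h1 z hz, mul_assoc, h3 z hz, mul_assoc], ?_⟩
    have e : x * (y * y') * x⁻¹ * (y * y')⁻¹ = (x * y * x⁻¹ * y⁻¹) * (y * (x * y' * x⁻¹ * y'⁻¹) * y⁻¹) := by group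
    rw [e, ← h1 _ h4, mul_inv_cancel_right]
    exact mul_mem h2 h4
  inv_mem' := by
    rintro y ⟨h1, h2⟩
    have h3 : ∀ z ∈ Z, z * y⁻¹ = y⁻¹ * z := by
      intro z hz
      calc z * y⁻¹ = y⁻¹ * (y * z) * y⁻¹ := by group
        _ = y⁻¹ * (z * y) * y⁻¹ := by rw [h1 z hz]
        _ = y⁻¹ * z := by group
    refine ⟨h3, ?_⟩
    have e : x * y⁻¹ * x⁻¹ * (y⁻¹)⁻¹ = y⁻¹ * (x * y * x⁻¹ * y⁻¹)⁻¹ * y := by group
    rw [e, ← h3 _ (inv_mem h2), inv_mul_cancel_right]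
    exact inv_mem h2

theorem comm_Sup {I : Type*} [Fintype I] [DecidableEq I] {X : (I → ℤ) → Subgroup Y} {S : Set (I → ℤ)} {Z : Subgroup Y}
    (hZ : ∀ z ∈ Z, ∀ r ∈ S, ∀ x ∈ X r, z * x = x * z)
    (hc : ∀ r ∈ S, ∀ s ∈ S, ∀ x ∈ X r, ∀ y ∈ X s, x * y * x⁻¹ * y⁻¹ ∈ Z) :
    ∀ x ∈ RGD.Sup X S, ∀ y ∈ RGD.Sup X S, x * y * x⁻¹ * y⁻¹ ∈ Z := by
  have h1 : ∀ r ∈ S, ∀ x ∈ X r, ∀ y ∈ RGD.Sup X S, x * y * x⁻¹ * y⁻¹ ∈ Z := by
    intro r hr x hx y hy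
    have h2 : RGD.Sup X S ≤ cz Z x := RGD.Sup_le fun s hs y hy => ⟨fun z hz => hZ z hz s hs y hy, hc r hr s hs x hx y hy⟩
    exact (h2 hy).2
  intro x hx y hy
  have h2 : RGD.Sup X S ≤ cz Z x := by
    refine RGD.Sup_le fun s hs w hw => ⟨fun z hz => hZ z hz s hs w hw, ?_⟩
    have h3 := h1 s hs w hw x hx
    have e : x * w * x⁻¹ * w⁻¹ = (w * x * w⁻¹ * x⁻¹)⁻¹ := by group
    rw [e]; exact inv_mem h3
  exact (h2 hy).2

end

/-! ### The facts -/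

variable {W Y : Type*} [Group W] [Group Y] {cs : CoxeterSystem (CoxeterMatrix.B 3) W}
  {h : IsCartan (CoxeterMatrix.B 3) AC3} {T : Subgroup Y} {n : Fin 3 → Y} {X : (Fin 3 → ℤ) → Subgroup Y}

theorem six3 (i j : Fin 3) : CoxeterMatrix.B 3 i j ≠ 6 := by
  show (if i = j then 1 else if (i : ℕ) = 3 - 1 ∧ (j : ℕ) = 3 - 2 ∨ (j : ℕ) = 3 - 1 ∧ (i : ℕ) = 3 - 2
        then 4 else (if (j : ℕ) + 1 = i ∨ (i : ℕ) + 1 = j then 3 else 2)) ≠ 6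
  split_ifs <;> decide

/-- the facts on the root groups -/
structure Fac (T : Subgroup Y) (X : (Fin 3 → ℤ) → Subgroup Y) : Prop where
  c4 : ∀ x ∈ AL, lg x = false → Nat.card (X x) = 4
  c2 : ∀ x ∈ AL, lg x = true → Nat.card (X x) = 2
  tc : ∀ x ∈ AL, lg x = true → ∀ t ∈ T, ∀ v ∈ X x, t * v = v * t
  tt : ∀ x ∈ AL, lg x = false → ∀ u ∈ X x, u ≠ 1 → ∀ u' ∈ X x, u' ≠ 1 → ∃ t ∈ T, t * u * t⁻¹ = u'
  or4 : ∀ m ∈ AL, ∀ x ∈ AL, cc m x = -2 → cc x m = -1 → ∀ u ∈ X x, u ≠ 1 → ∃ u' ∈ X (m + x), u * u' ≠ u' * u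
  lo : ∀ m ∈ AL, ∀ x ∈ AL, cc m x = -2 → cc x m = -1 → ∀ v ∈ X m, v ≠ 1 → ∀ u ∈ X x, u ≠ 1 →
    v * u * v⁻¹ * u⁻¹ ∉ X (m + (2 : ℤ) • x)

theorem lg_of_cc : ∀ m ∈ AL, ∀ x ∈ AL, cc m x = -2 → cc x m = -1 →
    lg m = true ∧ lg x = false ∧ m + (2 : ℤ) • x ∈ AL ∧ lg (m + (2 : ℤ) • x) = true := by decide +kernel

theorem fac [Finite W] (R : RGD cs h 2 T n X) (hq : ∀ j, Nat.card (X (sr j)) = (![4, 4, 2] : Fin 3 → ℕ) j) :
    Fac T X := by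
  have c4 : ∀ x ∈ AL, lg x = false → Nat.card (X x) = 4 := fun x hx hl => card_short R hq (isRoot_iff.2 hx) hl
  have tc : ∀ x ∈ AL, lg x = true → ∀ t ∈ T, ∀ v ∈ X x, t * v = v * t := by
    intro x hx hl t ht v hv
    have h1 := tor_long R hq (isRoot_iff.2 hx) hl ht hv
    calc t * v = t * v * t⁻¹ * t := by group
      _ = v * t := by rw [h1]
  have tt : ∀ x ∈ AL, lg x = false → ∀ u ∈ X x, u ≠ 1 → ∀ u' ∈ X x, u' ≠ 1 → ∃ t ∈ T, t * u * t⁻¹ = u' :=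
    fun x hx hl u hu hu1 u' hu' hu1' => tor_short R (isRoot_iff.2 hx) hl hu hu1 hu' hu1'
  refine ⟨c4, fun x hx hl => card_long R hq (isRoot_iff.2 hx) hl, tc, tt, ?_, ?_⟩
  · intro m hm x hx e1 e2 u hu hu1
    obtain ⟨l1, l2, l3, l4⟩ := lg_of_cc m hm x hx e1 e2
    have r1 : IsRoot cs h m := isRoot_iff.2 hm
    have r2 : IsRoot cs h x := isRoot_iff.2 hx
    exact Orth.exists_not_comm R ⟨r1, r2, by rw [cpr_eq r1 r2, e1], by rw [cpr_eq r2 r1, e2]⟩ (tc m hm l1)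
      (tc _ l3 l4) (tt x hx l2) (by rw [c4 x hx l2]; norm_num) hu hu1
  · intro m hm x hx e1 e2 v hv hv1 u hu hu1
    obtain ⟨l1, l2, l3, l4⟩ := lg_of_cc m hm x hx e1 e2
    have r1 : IsRoot cs h m := isRoot_iff.2 hm
    have r2 : IsRoot cs h x := isRoot_iff.2 hx
    exact not_mem_long R six3 r1 r2 (by rw [cpr_eq r1 r2, e1]) (by rw [cpr_eq r2 r1, e2]) (tc m hm l1)
      (tc _ l3 l4) (tt x hx l2) (by rw [c4 x hx l2]; norm_num) hv hv1 hu hu1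

theorem Fac.ab (F : Fac T X) {x : Fin 3 → ℤ} (hx : x ∈ AL) : ∀ u ∈ X x, ∀ v ∈ X x, u * v = v * u := by
  apply comm_of_card
  cases hl : lg x
  · exact Or.inl (F.c4 x hx hl)
  · exact Or.inr (F.c2 x hx hl)

/-- the commutator of two root groups -/
theorem comm_in_X [Finite W] (R : RGD cs h 2 T n X) {x y w : Fin 3 → ℤ} (hx : x ∈ AL) (hy : y ∈ AL) (hne : x ≠ y)
    (hne' : x ≠ -y) (hb : ∀ z ∈ AL, bt x y z = true → z = w) :
    ∀ u ∈ X x, ∀ v ∈ X y, u * v * u⁻¹ * v⁻¹ ∈ X w := by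
  intro u hu v hv
  have h1 := R.comm x y (isRoot_iff.2 hx) (isRoot_iff.2 hy) hne hne' u hu v hv
  refine btw_le_of (fun z hz => ?_) h1
  obtain ⟨h2, h3⟩ := bt_of_btwn hz
  exact hb z h2 h3

theorem comm_X [Finite W] (R : RGD cs h 2 T n X) {x y : Fin 3 → ℤ} (hx : x ∈ AL) (hy : y ∈ AL) (hne : x ≠ y)
    (hne' : x ≠ -y) (hb : ∀ z ∈ AL, bt x y z = false) : ∀ u ∈ X x, ∀ v ∈ X y, u * v = v * u := by
  intro u hu v hv
  refine comm_of_not_btwn R (isRoot_iff.2 hx) (isRoot_iff.2 hy) hne hne' (fun z hz => ?_) hu hv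
  obtain ⟨h2, h3⟩ := bt_of_btwn hz
  rw [hb z h2] at h3
  exact Bool.false_ne_true h3

/-! ### Heisenberg groups -/

/-- `a`, `b` short, orthogonal, `z = a + b` long -/
def Hk (a b z : Fin 3 → ℤ) : Prop :=
  (a ∈ AL ∧ b ∈ AL ∧ z ∈ AL) ∧ (a ≠ b ∧ a ≠ -b ∧ z ≠ a ∧ z ≠ -a ∧ z ≠ b ∧ z ≠ -b) ∧
    (∀ w ∈ AL, bt z a w = false) ∧ (∀ w ∈ AL, bt z b w = false) ∧ (∀ w ∈ AL, bt a b w = true → w = z) ∧
    ((b - a) ∈ AL ∧ cc (b - a) a = -2 ∧ cc a (b - a) = -1) ∧ ((a - b) ∈ AL ∧ cc (a - b) b = -2 ∧ cc b (a - b) = -1)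

instance (a b z : Fin 3 → ℤ) : Decidable (Hk a b z) := by unfold Hk; infer_instance

section

variable [Finite W] (R : RGD cs h 2 T n X) (F : Fac T X)

include R

theorem Hk.ca {a b z : Fin 3 → ℤ} (H : Hk a b z) : ∀ u ∈ X z, ∀ v ∈ X a, u * v = v * u :=
  comm_X R H.1.2.2 H.1.1 H.2.1.2.2.1 H.2.1.2.2.2.1 H.2.2.1

theorem Hk.cb {a b z : Fin 3 → ℤ} (H : Hk a b z) : ∀ u ∈ X z, ∀ v ∈ X b, u * v = v * u :=
  comm_X R H.1.2.2 H.1.2.1 H.2.1.2.2.2.2.1 H.2.1.2.2.2.2.2 H.2.2.2.1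

theorem Hk.cab {a b z : Fin 3 → ℤ} (H : Hk a b z) : ∀ u ∈ X a, ∀ v ∈ X b, u * v * u⁻¹ * v⁻¹ ∈ X z :=
  comm_in_X R H.1.1 H.1.2.1 H.2.1.1 H.2.1.2.1 H.2.2.2.2.1

include F

theorem Hk.centre {a b z : Fin 3 → ℤ} (H : Hk a b z) {p : Y} (hp : p ∈ X a ⊔ (X b ⊔ X z))
    (h1 : ∀ g ∈ X a, p * g = g * p) (h2 : ∀ g ∈ X b, p * g = g * p) : p ∈ X z := by
  refine heis (H.ca R) (H.cb R) (F.ab H.1.2.1) (H.cab R) ?_ ?_ hp h1 h2
  · intro u hu hu1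
    have := F.or4 _ H.2.2.2.2.2.1.1 a H.1.1 H.2.2.2.2.2.1.2.1 H.2.2.2.2.2.1.2.2 u hu hu1
    rwa [sub_add_cancel] at this
  · intro u hu hu1
    have := F.or4 _ H.2.2.2.2.2.2.1 b H.1.2.1 H.2.2.2.2.2.2.2.1 H.2.2.2.2.2.2.2.2 u hu hu1
    rwa [sub_add_cancel] at this

end

/-! ### The subgroups -/

def LN : List (Fin 3 → ℤ) := [![2, 2, 1], ![1, 2, 1], ![1, 0, 0], ![1, 1, 1], ![1, 1, 0]]

def LF : List (Fin 3 → ℤ) := [![0, 2, 1], ![0, 1, 1], ![0, 1, 0]]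

theorem mem_NotJ {z : Fin 3 → ℤ} : z ∈ NotJ cs h {1, 2} ↔ z ∈ LN := by
  have key : ∀ z ∈ LC3, 0 < z 0 ↔ z ∈ LN := by decide +kernel
  have key2 : ∀ z ∈ LN, z ∈ LC3 := by decide +kernel
  constructor
  · rintro ⟨h1, h2, k, hk, h3⟩
    have hk0 : k = 0 := by
      fin_cases k
      · rfl
      · exact absurd (Or.inl rfl) hk
      · exact absurd (Or.inr rfl) hk
    subst hk0
    exact (key z (mem_Pos_iff.1 (⟨h1, h2⟩ : z ∈ RGD.Pos cs h))).1 h3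
  · intro hz
    have h1 := (mem_Pos_iff (cs := cs) (h := h)).2 (key2 z hz)
    refine ⟨h1.1, h1.2, 0, ?_, (key z (key2 z hz)).2 hz⟩
    rintro (h2 | h2)
    · exact absurd h2 (by decide)
    · exact absurd h2 (by decide)

theorem mem_PosJ {z : Fin 3 → ℤ} : z ∈ PosJ cs h {1, 2} ↔ z ∈ LF ∨ z = ![0, 0, 1] := by
  have key : ∀ z ∈ LC3, z 0 = 0 → z ∈ LF ∨ z = ![0, 0, 1] := by decide +kernel
  have key2 : ∀ z ∈ (![0, 0, 1] :: LF), z ∈ LC3 ∧ z 0 = 0 := by decide +kernel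
  constructor
  · rintro ⟨h1, h2, h3⟩
    refine key z (mem_Pos_iff.1 (⟨h1, h2⟩ : z ∈ RGD.Pos cs h)) (h3 0 ?_)
    rintro (h4 | h4)
    · exact absurd h4 (by decide)
    · exact absurd h4 (by decide)
  · intro hz
    obtain ⟨h1, h2⟩ := key2 z (by rw [List.mem_cons]; exact hz.symm)
    have h3 := (mem_Pos_iff (cs := cs) (h := h)).2 h1
    refine ⟨h3.1, h3.2, fun k hk => ?_⟩
    fin_cases k
    · exact h2
    · exact absurd (Or.inl rfl) hk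
    · exact absurd (Or.inr rfl) hk

end Cfsg.Agent.Omega.EH3Close.CThree
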