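import Cfsg.Agent.Omega.EH3Close.Roots
import Cfsg.Agent.Omega.EH3Close.RgdLead

/-!
# The root system `C₃` in the coordinates of the simple roots: roots, Cartan numbers, roots between two roots (helper616)
-/

set_option autoImplicit false
set_option linter.unusedSectionVars false
set_option Elab.async false

namespace Cfsg.Agent.Omega.EH3Close.CThree

open CoxeterSystem Cfsg.Agent.ChevalleyStructure.CoxeterGeom Cfsg.Agent.Tits.Roots Cfsg.Agent.Tits.Core
  Cfsg.Agent.Tits.Exchange Cfsg.Agent.Nodes.Reps Cfsg.Agent.Nodes.BNOf Cfsg.Agent.Nodes.StabComb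
  Cfsg.Agent.Nodes.Bruhat Cfsg.Agent.Nodes.OppDec Cfsg.Agent.Nodes.PosPair Cfsg.Agent.Nodes.Coroot
  Cfsg.Agent.KFacts.RgdSL Cfsg.Agent.Omega.EH3Close.LeadU Cfsg.Agent.Omega.EH3Close.RgdLead
  Cfsg.Agent.Omega.EH3Close.Roots

/-- all roots -/
def AL : List (Fin 3 → ℤ) := LC3 ++ LC3.map fun x => -x

/-- the long roots -/
def LL : List (Fin 3 → ℤ) := [![0, 0, 1], ![0, 2, 1], ![2, 2, 1], ![0, 0, -1], ![0, -2, -1], ![-2, -2, -1]]

/-- long -/
def lg (x : Fin 3 → ℤ) : Bool := LL.contains x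

/-- twice the inner product -/
def dt (x y : Fin 3 → ℤ) : ℤ :=
  x 0 * y 0 + (x 1 - x 0) * (y 1 - y 0) + (2 * x 2 - x 1) * (2 * y 2 - y 1)

/-- the Cartan numbers -/
def cc (x y : Fin 3 → ℤ) : ℤ := 2 * dt x y / dt y y

/-- cross product -/
def cr (x y : Fin 3 → ℤ) : Fin 3 → ℤ := ![x 1 * y 2 - x 2 * y 1, x 2 * y 0 - x 0 * y 2, x 0 * y 1 - x 1 * y 0]

/-- `z` in the cone of `x`, `y` -/
def bt (x y z : Fin 3 → ℤ) : Bool :=
  decide ((∀ k, (cr z y k).sign = (cr x y k).sign) ∧ (∀ k, (cr x z k).sign = (cr x y k).sign) ∧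
    z 0 * cr x y 0 + z 1 * cr x y 1 + z 2 * cr x y 2 = 0)

theorem cr_eq (x y : Fin 3 → ℤ) (k : Fin 3) : cr x y k = x (k + 1) * y (k + 2) - x (k + 2) * y (k + 1) := by
  fin_cases k <;> rfl

variable {W Y : Type*} [Group W] [Group Y] {cs : CoxeterSystem (CoxeterMatrix.B 3) W}
  {h : IsCartan (CoxeterMatrix.B 3) AC3}

theorem mem_AL_of {x : Fin 3 → ℤ} (hx : x ∈ RC3 ∨ -x ∈ RC3) : x ∈ AL := by
  rw [AL, List.mem_append, List.mem_map]
  rcases hx with hx | hx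
  · exact Or.inl (List.mem_toFinset.1 hx)
  · exact Or.inr ⟨-x, List.mem_toFinset.1 hx, neg_neg x⟩

theorem mem_AL {x : Fin 3 → ℤ} (hx : IsRoot cs h x) : x ∈ AL := by
  obtain ⟨w, i, rfl⟩ := hx
  exact mem_AL_of (posRoots_C3.rep_mem h cs w _ (posRoots_C3.simple_mem i))

theorem root_refl (i : Fin 3) {x : Fin 3 → ℤ} (hx : IsRoot cs h x) : IsRoot cs h (refl AC3 i x) := by
  have := hx.act (cs.simple i)
  rwa [rep_simple] at this

theorem root_LC3 : ∀ x ∈ LC3, IsRoot cs h x := by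
  have h0 : IsRoot cs h ![1, 0, 0] := by
    have := isRoot_sr cs h 0
    rwa [show (sr 0 : Fin 3 → ℤ) = ![1, 0, 0] from by decide +kernel] at this
  have h1 : IsRoot cs h ![0, 1, 0] := by
    have := isRoot_sr cs h 1
    rwa [show (sr 1 : Fin 3 → ℤ) = ![0, 1, 0] from by decide +kernel] at this
  have h2 : IsRoot cs h ![0, 0, 1] := by
    have := isRoot_sr cs h 2
    rwa [show (sr 2 : Fin 3 → ℤ) = ![0, 0, 1] from by decide +kernel] at this
  have h3 : IsRoot cs h ![0, 1, 1] := by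
    have := root_refl 2 h1
    rwa [show refl AC3 2 ![0, 1, 0] = ![0, 1, 1] from by decide +kernel] at this
  have h4 : IsRoot cs h ![1, 1, 0] := by
    have := root_refl 0 h1
    rwa [show refl AC3 0 ![0, 1, 0] = ![1, 1, 0] from by decide +kernel] at this
  have h5 : IsRoot cs h ![0, 2, 1] := by
    have := root_refl 1 h2
    rwa [show refl AC3 1 ![0, 0, 1] = ![0, 2, 1] from by decide +kernel] at this
  have h6 : IsRoot cs h ![1, 1, 1] := by
    have := root_refl 2 h4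
    rwa [show refl AC3 2 ![1, 1, 0] = ![1, 1, 1] from by decide +kernel] at this
  have h7 : IsRoot cs h ![1, 2, 1] := by
    have := root_refl 1 h6
    rwa [show refl AC3 1 ![1, 1, 1] = ![1, 2, 1] from by decide +kernel] at this
  have h8 : IsRoot cs h ![2, 2, 1] := by
    have := root_refl 0 h5
    rwa [show refl AC3 0 ![0, 2, 1] = ![2, 2, 1] from by decide +kernel] at this
  intro x hx
  simp only [LC3, List.mem_cons, List.not_mem_nil, or_false] at hx
  rcases hx with rfl | rfl | rfl | rfl | rfl | rfl | rfl | rfl | rfl <;> assumption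

theorem isRoot_iff {x : Fin 3 → ℤ} : IsRoot cs h x ↔ x ∈ AL := by
  refine ⟨mem_AL, fun hx => ?_⟩
  rw [AL, List.mem_append, List.mem_map] at hx
  rcases hx with hx | ⟨y, hy, rfl⟩
  · exact root_LC3 x hx
  · exact (root_LC3 y hy).neg

theorem mem_Pos_iff {x : Fin 3 → ℤ} : x ∈ RGD.Pos cs h ↔ x ∈ LC3 := by
  constructor
  · rintro ⟨hx, h0⟩
    have h1 : ∀ x ∈ AL, (∀ i, 0 ≤ x i) → x ∈ LC3 := by decide +kernel
    exact h1 x (mem_AL hx) h0
  · intro hx
    refine ⟨root_LC3 x hx, ?_⟩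
    have h1 : ∀ x ∈ LC3, ∀ i, 0 ≤ x i := by decide +kernel
    exact h1 x hx

/-- the length is invariant -/
theorem lg_rep (w : W) : ∀ x ∈ AL, rep cs h w x ∈ AL ∧ lg (rep cs h w x) = lg x := by
  have key : ∀ x ∈ AL, ∀ i, refl AC3 i x ∈ AL ∧ lg (refl AC3 i x) = lg x := by decide +kernel
  refine cs.simple_induction_left (p := fun w => ∀ x ∈ AL, rep cs h w x ∈ AL ∧ lg (rep cs h w x) = lg x) w ?_ ?_
  · intro x hx
    rw [map_one, Module.End.one_apply]
    exact ⟨hx, rfl⟩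
  · intro w i ih x hx
    obtain ⟨h1, h2⟩ := ih x hx
    rw [rep_mul_apply, rep_simple]
    exact ⟨(key _ h1 i).1, (key _ h1 i).2.trans h2⟩

/-- the Cartan numbers -/
theorem cpr_eq [Finite W] {x y : Fin 3 → ℤ} (hx : IsRoot cs h x) (hy : IsRoot cs h y) : cpr cs h x y = cc x y := by
  have key : ∀ x ∈ AL, ∀ y ∈ AL, ∀ i, cc (refl AC3 i x) (refl AC3 i y) = cc x y := by decide +kernel
  have key2 : ∀ x ∈ AL, ∀ i, pairing AC3 i x = cc x (sr i) := by decide +kernel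
  obtain ⟨w, i, rfl⟩ := hy
  have h1 : ∀ w : W, ∀ x ∈ AL, cc (rep cs h w x) (rep cs h w (sr i)) = cc x (sr i) := by
    intro w
    refine cs.simple_induction_left (p := fun w => ∀ x ∈ AL, cc (rep cs h w x) (rep cs h w (sr i)) = cc x (sr i)) w
      ?_ ?_
    · intro x _
      rw [map_one, Module.End.one_apply, Module.End.one_apply]
    · intro w j ih x hx'
      rw [rep_mul_apply, rep_mul_apply, rep_simple, key _ (lg_rep w x hx').1 _
        (lg_rep w _ (mem_AL (isRoot_sr cs h i))).1, ih x hx']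
  rw [cpr_rep_sr, key2 _ (mem_AL (hx.act _))]
  have := h1 w _ (mem_AL (hx.act w⁻¹))
  rw [rep_apply_inv] at this
  exact this.symm

theorem sign_eq_of_mul {m a u v : ℤ} (hm : 0 < m) (ha : 0 < a) (he : m * u = a * v) : u.sign = v.sign := by
  have h1 := congrArg Int.sign he
  rwa [Int.sign_mul, Int.sign_mul, Int.sign_eq_one_of_pos hm, Int.sign_eq_one_of_pos ha, one_mul, one_mul] at h1

theorem bt_of_btwn {x y z : Fin 3 → ℤ} (hz : Btwn cs h x y z) : z ∈ AL ∧ bt x y z = true := by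
  obtain ⟨hz, m, a, b, hm, ha, hb, he⟩ := hz
  refine ⟨mem_AL hz, ?_⟩
  have e : ∀ k, m * z k = a * x k + b * y k := by
    intro k
    have := congrFun he k
    simpa using this
  rw [bt, decide_eq_true_eq]
  refine ⟨fun k => ?_, fun k => ?_, ?_⟩
  · refine sign_eq_of_mul hm ha ?_
    rw [cr_eq, cr_eq]
    linear_combination y (k + 2) * e (k + 1) - y (k + 1) * e (k + 2)
  · refine sign_eq_of_mul hm hb ?_
    rw [cr_eq, cr_eq]
    linear_combination x (k + 1) * e (k + 2) - x (k + 2) * e (k + 1)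
  · have h1 : m * (z 0 * cr x y 0 + z 1 * cr x y 1 + z 2 * cr x y 2) = 0 := by
      show m * (z 0 * (x 1 * y 2 - x 2 * y 1) + z 1 * (x 2 * y 0 - x 0 * y 2) + z 2 * (x 0 * y 1 - x 1 * y 0)) = 0
      linear_combination (x 1 * y 2 - x 2 * y 1) * e 0 + (x 2 * y 0 - x 0 * y 2) * e 1 + (x 0 * y 1 - x 1 * y 0) * e 2
    exact (mul_eq_zero.1 h1).resolve_left hm.ne'

/-- the table for positive roots -/
theorem tab {x y z : Fin 3 → ℤ} (hx : x ∈ RGD.Pos cs h) (hy : y ∈ RGD.Pos cs h) (hxy : x ≠ y)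
    (hz : Btwn cs h x y z) : (z = x + y ∨ (z = x + y + y ∧ x + y ∈ LC3) ∨ (z = x + (x + y) ∧ x + y ∈ LC3)) ∨
      (z + z = x + y ∧ lg x = true ∧ lg y = true ∧ lg z = false ∧ ∀ z' ∈ AL, bt x y z' = true → z' = z) := by
  have key : ∀ x ∈ LC3, ∀ y ∈ LC3, x ≠ y → ∀ z ∈ AL, bt x y z = true →
      (z = x + y ∨ (z = x + y + y ∧ x + y ∈ LC3) ∨ (z = x + (x + y) ∧ x + y ∈ LC3)) ∨
      (z + z = x + y ∧ lg x = true ∧ lg y = true ∧ lg z = false ∧ ∀ z' ∈ AL, bt x y z' = true → z' = z) := by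
    decide +kernel
  obtain ⟨h1, h2⟩ := bt_of_btwn hz
  exact key x (mem_Pos_iff.1 hx) y (mem_Pos_iff.1 hy) hxy z h1 h2

/-- check for an `A₂`-plane -/
def a2c (x y : Fin 3 → ℤ) : Bool :=
  AL.contains x && AL.contains y && decide (cc x y = -1) && decide (cc y x = -1) &&
  AL.all fun z => (!bt x y z || decide (z = x + y)) && !bt (-x) y z && (!bt (-x) (x + y) z || decide (z = y)) &&
    (!bt (-y) (x + y) z || decide (z = x)) && !bt (x + y) y z && !bt (x + y) x z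

theorem a2_of [Finite W] {x y : Fin 3 → ℤ} (hc : a2c x y = true) : A2 cs h x y := by
  simp only [a2c, Bool.and_eq_true, List.contains_iff_mem, decide_eq_true_eq, List.all_eq_true, Bool.or_eq_true,
    Bool.not_eq_true'] at hc
  obtain ⟨⟨⟨⟨h1, h2⟩, h3⟩, h4⟩, h5⟩ := hc
  have r1 : IsRoot cs h x := isRoot_iff.2 h1
  have r2 : IsRoot cs h y := isRoot_iff.2 h2
  refine ⟨r1, r2, (cpr_eq r1 r2).trans h3, (cpr_eq r2 r1).trans h4, ?_, ?_, ?_, ?_, ?_, ?_⟩
  · intro z hz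
    obtain ⟨m1, m2⟩ := bt_of_btwn hz
    exact (h5 z m1).1.1.1.1.1.resolve_left (by simp [m2])
  · intro z hz
    obtain ⟨m1, m2⟩ := bt_of_btwn hz
    exact absurd (h5 z m1).1.1.1.1.2 (by simp [m2])
  · intro z hz
    obtain ⟨m1, m2⟩ := bt_of_btwn hz
    exact (h5 z m1).1.1.1.2.resolve_left (by simp [m2])
  · intro z hz
    obtain ⟨m1, m2⟩ := bt_of_btwn hz
    exact (h5 z m1).1.1.2.resolve_left (by simp [m2])
  · intro z hz
    obtain ⟨m1, m2⟩ := bt_of_btwn hz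
    exact absurd (h5 z m1).1.2 (by simp [m2])
  · intro z hz
    obtain ⟨m1, m2⟩ := bt_of_btwn hz
    exact absurd (h5 z m1).2 (by simp [m2])

/-- every short root is in an `A₂`-plane -/
theorem exists_a2 [Finite W] {y : Fin 3 → ℤ} (hy : IsRoot cs h y) (hs : lg y = false) : ∃ x, A2 cs h x y := by
  have key : ∀ y ∈ AL, lg y = false → ∃ x ∈ AL, a2c x y = true := by decide +kernel
  obtain ⟨x, -, hx⟩ := key y (mem_AL hy) hs
  exact ⟨x, a2_of hx⟩

/-- `m` long, `x` short, `m + x` short, `m + 2 x` long; positive -/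
structure C2 (cs : CoxeterSystem (CoxeterMatrix.B 3) W) (h : IsCartan (CoxeterMatrix.B 3) AC3) (m x : Fin 3 → ℤ) :
    Prop where
  pm : m ∈ RGD.Pos cs h
  px : x ∈ RGD.Pos cs h
  p1 : m + x ∈ RGD.Pos cs h
  p2 : m + x + x ∈ RGD.Pos cs h
  lm : lg m = true
  lx : lg x = false
  l1 : lg (m + x) = false
  l2 : lg (m + x + x) = true
  cm : cpr cs h m x = -2
  b1 : ∀ z, Btwn cs h m x z → z = m + x ∨ z = m + x + x
  b2 : ∀ z, ¬ Btwn cs h (-x) m z
  b3 : ∀ z, ¬ Btwn cs h x (m + x + x) z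
  b4 : ∀ z, ¬ Btwn cs h m (m + x) z
  b5 : ∀ z, Btwn cs h x (m + x) z → z = m + x + x
  b6 : ∀ z, ¬ Btwn cs h (m + x) (m + x + x) z

/-- check -/
def c2c (m x : Fin 3 → ℤ) : Bool :=
  LC3.contains m && LC3.contains x && LC3.contains (m + x) && LC3.contains (m + x + x) && lg m && !lg x &&
    !lg (m + x) && lg (m + x + x) && decide (cc m x = -2) &&
  AL.all fun z => (!bt m x z || decide (z = m + x ∨ z = m + x + x)) && !bt (-x) m z && !bt x (m + x + x) z &&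
    !bt m (m + x) z && (!bt x (m + x) z || decide (z = m + x + x)) && !bt (m + x) (m + x + x) z

theorem c2_of [Finite W] {m x : Fin 3 → ℤ} (hc : c2c m x = true) : C2 cs h m x := by
  simp only [c2c, Bool.and_eq_true, List.contains_iff_mem, decide_eq_true_eq, List.all_eq_true, Bool.or_eq_true,
    Bool.not_eq_true'] at hc
  obtain ⟨⟨⟨⟨⟨⟨⟨⟨⟨h1, h2⟩, h3⟩, h4⟩, h5⟩, h6⟩, h7⟩, h8⟩, h9⟩, h10⟩ := hc
  have r1 : m ∈ RGD.Pos cs h := mem_Pos_iff.2 h1
  have r2 : x ∈ RGD.Pos cs h := mem_Pos_iff.2 h2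
  refine ⟨r1, r2, mem_Pos_iff.2 h3, mem_Pos_iff.2 h4, h5, h6, h7, h8, (cpr_eq r1.1 r2.1).trans h9, ?_, ?_, ?_, ?_,
    ?_, ?_⟩
  · intro z hz
    obtain ⟨m1, m2⟩ := bt_of_btwn hz
    exact (h10 z m1).1.1.1.1.1.resolve_left (by simp [m2])
  · intro z hz
    obtain ⟨m1, m2⟩ := bt_of_btwn hz
    exact absurd (h10 z m1).1.1.1.1.2 (by simp [m2])
  · intro z hz
    obtain ⟨m1, m2⟩ := bt_of_btwn hz
    exact absurd (h10 z m1).1.1.1.2 (by simp [m2])
  · intro z hz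
    obtain ⟨m1, m2⟩ := bt_of_btwn hz
    exact absurd (h10 z m1).1.1.2 (by simp [m2])
  · intro z hz
    obtain ⟨m1, m2⟩ := bt_of_btwn hz
    exact (h10 z m1).1.2.resolve_left (by simp [m2])
  · intro z hz
    obtain ⟨m1, m2⟩ := bt_of_btwn hz
    exact absurd (h10 z m1).2 (by simp [m2])

end Cfsg.Agent.Omega.EH3Close.CThree
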